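import Cfsg.Agent.Fusion.SolvIndex.Climb
import Cfsg.Agent.Fusion.ResidualLimit
import Cfsg.Agent.Fusion.PIndex.Normal
import Cfsg.Agent.Fusion.StrongInvariant
import Cfsg.Agent.Fusion.Tate

/-!
A subsystem of index prime to `p` has the residual limit of the system.
-/

set_option autoImplicit false
set_option linter.style.haveILetI false
set_option linter.unusedSectionVars false

open Cfsg Cfsg.FusionSystem CfsgLib.Fusion

namespace CfsgLib.SolvIndex

variable {Ω : Type*} [Group Ω] {S T U V W : Subgroup Ω}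

/-! ### Counting maps -/

/-- All maps of a system. -/
def homSet (F : FusionSystem S) : Set ((P : Subgroup Ω) × (P →* Ω)) := {q | q.2 ∈ F.Hom q.1}

theorem homSet_finite [Finite S] (F : FusionSystem S) : (homSet F).Finite := by
  classical
  let g : ((P : Subgroup Ω) × (P →* Ω)) → Set (Ω × Ω) :=
    fun q => Set.range fun x : q.1 => ((x : Ω), q.2 x)
  have hS : (S : Set Ω).Finite := Set.toFinite _
  refine Set.Finite.of_finite_image (f := g) ((hS.prod hS).finite_subsets.subset ?_) ?_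
  · rintro _ ⟨q, hq, rfl⟩ _ ⟨x, rfl⟩
    exact ⟨(F.le_of_mem hq).1 x.2, (F.le_of_mem hq).2 x⟩
  · rintro ⟨P, φ⟩ - ⟨Q, ψ⟩ - h
    obtain rfl : P = Q := by
      ext x
      constructor
      · intro hx
        obtain ⟨y, hy⟩ := (Set.ext_iff.1 h (x, φ ⟨x, hx⟩)).1 ⟨⟨x, hx⟩, rfl⟩
        exact Set.mem_of_eq_of_mem (Prod.ext_iff.1 hy).1.symm y.2
      · intro hx
        obtain ⟨y, hy⟩ := (Set.ext_iff.1 h (x, ψ ⟨x, hx⟩)).2 ⟨⟨x, hx⟩, rfl⟩
        exact Set.mem_of_eq_of_mem (Prod.ext_iff.1 hy).1.symm y.2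
    obtain rfl : φ = ψ := MonoidHom.ext fun x => by
      obtain ⟨y, hy⟩ := (Set.ext_iff.1 h ((x : Ω), φ x)).1 ⟨x, rfl⟩
      obtain ⟨h1, h2⟩ := Prod.ext_iff.1 hy
      exact h2.symm.trans (congrArg ψ (Subtype.ext h1))
    rfl

/-- The number of maps of a system. -/
noncomputable def homCount (F : FusionSystem S) : ℕ := (homSet F).ncard

theorem homCount_le [Finite S] {E : FusionSystem T} {F : FusionSystem S}
    (h : E.IsSubsystemOf F) : homCount E ≤ homCount F :=
  Set.ncard_le_ncard (fun q hq => h q.1 hq) (homSet_finite F)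

theorem homCount_lt [Finite S] {E : FusionSystem T} {F : FusionSystem S}
    (h : E.IsSubsystemOf F) (hne : ¬ SameMaps E F) : homCount E < homCount F := by
  refine Set.ncard_lt_ncard ⟨fun q hq => h q.1 hq, fun hle => hne ?_⟩ (homSet_finite F)
  have hsub : ∀ P, F.Hom P ⊆ E.Hom P := fun P φ hφ => hle (show ⟨P, φ⟩ ∈ homSet F from hφ)
  exact ⟨le_antisymm (le_of_subsystem h) (le_of_subsystem hsub),
    fun P => Set.Subset.antisymm (h P) (hsub P)⟩

/-! ### Existence of limits -/

variable {p : ℕ} [Fact p.Prime]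

theorem exists_limit [Finite S] (hS : IsPGroup p S) {F : FusionSystem S} (hF : F.IsSaturated p) :
    ∃ (U : Subgroup Ω) (A : FusionSystem U), A.IsResidualLimitOf F p := by
  induction hn : homCount F using Nat.strong_induction_on generalizing S with
  | _ n IH =>
  have hle := hyperfocalSubgroup_le_S (F := F) p
  haveI := finite_of_le hle
  have hH := isPGroup_of_le hS hle
  obtain ⟨D, hDs, hDi⟩ := exists_pPowerIndex_subsystem p hS F hF _ hle le_rfl
  obtain ⟨D', hD'⟩ := exists_pPrimeResidual p hH hDs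
  by_cases hsame : SameMaps D' F
  · obtain ⟨e, he⟩ := hsame
    have key : ∀ (W : Subgroup Ω) (D₁ D₁' : FusionSystem W), W = S → D₁.IsSubsystemOf F →
        D₁.IsPPrimeResidual p D₁' → (∀ P, D₁'.Hom P = F.Hom P) → F.IsPPrimeResidual p F := by
      rintro W D₁ D₁' rfl h1 h2 h3
      obtain rfl : D₁' = F := ext_hom h3
      obtain rfl : D₁ = D₁' :=
        ext_hom fun P => Set.Subset.antisymm (h1 P) (h2.2.1.1 P)
      exact h2
    exact ⟨S, F, .stable F p e (key _ D D' e hDi.1 hD' he)⟩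
  · have hsub : D'.IsSubsystemOf F := fun P φ h => hDi.1 P (hD'.2.1.1 P h)
    obtain ⟨U, A, hA⟩ := IH _ (hn ▸ homCount_lt hsub hsame) hH hD'.1 rfl
    exact ⟨U, A, .step F p D D' ⟨hDs, hDi⟩ hD' hA⟩

omit [Fact p.Prime] in
theorem SameMaps.trans {A : FusionSystem U} {B : FusionSystem V} {C : FusionSystem W}
    (h₁ : SameMaps A B) (h₂ : SameMaps B C) : SameMaps A C :=
  ⟨h₁.1.trans h₂.1, fun P => (h₁.2 P).trans (h₂.2 P)⟩

theorem SameMaps.symm {A : FusionSystem U} {B : FusionSystem V} (h : SameMaps A B) :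
    SameMaps B A :=
  ⟨h.1.symm, fun P => (h.2 P).symm⟩

/-! ### Weak normality in a smaller system -/

theorem stronglyClosed_of_sub {F : FusionSystem S} {G : FusionSystem W} (hG : G.IsSubsystemOf F)
    (hTW : T ≤ W) (hT : F.StronglyClosed T) : G.StronglyClosed T :=
  ⟨hTW, fun R hR φ hφ x => hT.2 R hR φ (hG R hφ) x⟩

theorem weaklyNormal_of_between [Finite W] {F : FusionSystem S} {G : FusionSystem W}
    {E : FusionSystem T} (hW : IsPGroup p W) (hG : G.IsSaturated p) (hGF : G.IsSubsystemOf F)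
    (hEG : E.IsSubsystemOf G) (hE : E.IsWeaklyNormalIn F p) : E.IsWeaklyNormalIn G p := by
  obtain ⟨hEs, -, hinv⟩ := hE
  have hT := stronglyClosed_of_sub hGF (le_of_subsystem hEG) hinv.2.1
  refine ⟨hEs, hG, hEG, hT, fun P hPT φ hφ α hα => hinv.2.2.1 P hPT φ hφ α
    (autGroup_mono' hGF T hα), fun P hPT φ hφ => ?_⟩
  exact splits_of_stronglyInvariant hEG
    (fun P' Q hPQ hQT φ' hφ' hφQ ψ hψ => invariant_conj hinv hPQ hQT hφ' hφQ (hGF Q hψ))
    p hW hG hT P hPT φ hφ

/-- A weakly normal subsystem over the whole group has index prime to `p`. -/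
theorem primeToP_of_weaklyNormal [Finite S] (hS : IsPGroup p S) {F E : FusionSystem S}
    (hE : E.IsWeaklyNormalIn F p) : E.HasPrimeToPIndexIn F p :=
  ⟨hE.2.2.1, fun _ hP => closure_pElements_le_of_invariant p hS hE.2.1 hE.2.2 hP⟩

/-- **A saturated subsystem of index prime to `p` has the residual limit of the system.** -/
theorem sameLimit_primeIndex [Finite S] (hS : IsPGroup p S) {F F₀ : FusionSystem S}
    (hF : F.IsSaturated p) (hF₀ : F₀.IsSaturated p) (hi : F₀.HasPrimeToPIndexIn F p)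
    {A : FusionSystem U} (hA : A.IsResidualLimitOf F p) {B : FusionSystem V}
    (hB : B.IsResidualLimitOf F₀ p) : SameMaps A B := by
  induction hn : homCount F using Nat.strong_induction_on generalizing S U V with
  | _ n IH =>
  by_cases hsame : SameMaps F₀ F
  · obtain rfl : F₀ = F := ext_hom hsame.2
    exact limit_unique p hA rfl inferInstance hS hF hB
  obtain ⟨H, D, D', hH, hDs, hDi, hD', hA'⟩ := exists_residual_pair hF hA
  subst hH
  have hle := hyperfocalSubgroup_le_S (F := F) p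
  haveI := finite_of_le hle
  have hHp := isPGroup_of_le hS hle
  have hHn : S ≤ Subgroup.normalizer (F.hyperfocalSubgroup p : Set Ω) :=
    le_normalizer_hyperfocal p
  have hDn := pPowerIndex_normal p hS hF hle hHn le_rfl hDs hDi
  have hD'n : D'.IsNormalIn F p := pPrimeResidual_normal hS hDn.1 hD'
  have hD'0 : D'.IsSubsystemOf F₀ := residual_le hS hF₀ hi hDn.1 hD'
  have h0le : F₀.hyperfocalSubgroup p ≤ F.hyperfocalSubgroup p :=
    hyperfocal_mono_subsystem le_rfl hi.1 p
  obtain ⟨G, hGs, hGi⟩ := exists_pPowerIndex_subsystem p hS F₀ hF₀ _ hle h0le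
  have hGn := pPowerIndex_normal p hS hF₀ hle hHn h0le hGs hGi
  have hD'G : D'.IsSubsystemOf G := fun P =>
    CfsgLib.PPowerIndex.hom_subset_of_pPowerIndex p hHp le_rfl hD'0 hD'.1 hGi P
  have hGF : G.IsSubsystemOf F := fun P φ h => hi.1 P (hGi.1 P h)
  have hw : D'.IsWeaklyNormalIn G p := weaklyNormal_of_between hHp hGs hGF hD'G hD'n.1
  obtain ⟨U', A', hA''⟩ := exists_limit hHp hGs
  have h1 : SameMaps B A' := residualLimit_eq_of_pPowerIndex p hS hF₀ hGn hGi hB hA''
  have hlt : homCount G < n :=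
    hn ▸ (homCount_le hGi.1).trans_lt (homCount_lt hi.1 hsame)
  have h2 : SameMaps A' A :=
    IH _ hlt hHp hGs hD'.1 (primeToP_of_weaklyNormal hHp hw) hA'' hA' rfl
  exact SameMaps.symm (SameMaps.trans h1 h2)

end CfsgLib.SolvIndex
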