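import Cfsg.Agent.Fusion.PrimeResidual
import Cfsg.Agent.Fusion.PPrime.Residual
import Cfsg.Agent.Fusion.NormalCriteria

/-!
The `p'`-residual of a weakly normal subsystem lies in every saturated subsystem of index prime
to `p`.
-/

set_option autoImplicit false
set_option linter.style.haveILetI false
set_option linter.unusedSectionVars false

open Cfsg Cfsg.FusionSystem CfsgLib.Fusion

namespace CfsgLib.SolvIndex

variable {Ω : Type*} [Group Ω] {S H : Subgroup Ω} [Finite S] {F R : FusionSystem S} {p : ℕ}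
  [Fact p.Prime]

omit [Finite S] in
theorem aut_conj (a : MulAut H) {g x : Ω} (hg : g ∈ H) (hx : x ∈ H) (h : g * x * g⁻¹ ∈ H) :
    ((a ⟨g * x * g⁻¹, h⟩ : H) : Ω) =
      (a ⟨g, hg⟩ : H) * (a ⟨x, hx⟩ : H) * ((a ⟨g, hg⟩ : H) : Ω)⁻¹ := by
  rw [show (⟨g * x * g⁻¹, h⟩ : H) = ⟨g, hg⟩ * ⟨x, hx⟩ * ⟨g, hg⟩⁻¹ from rfl, map_mul, map_mul,
    map_inv]
  rfl

/-- An automorphism of `H` that lies in `R` on a centric subgroup of `H` lies in `R`. -/
theorem mem_of_restrict (hS : IsPGroup p S) (hR : R.IsSaturated p)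
    (hRi : R.HasPrimeToPIndexIn F p) (hH : F.StronglyClosed H) {a : MulAut H}
    (ha : a ∈ F.autGroup H) :
    ∀ {P : Subgroup Ω}, TCentric F H P → ∀ hPH : P ≤ H,
      (H.subtype.comp a.toMonoidHom).comp (Subgroup.inclusion hPH) ∈ R.Hom P →
      H.subtype.comp a.toMonoidHom ∈ R.Hom H := by
  intro P
  induction hn : Nat.card H - Nat.card P using Nat.strong_induction_on generalizing P with
  | _ n IH =>
  intro hP hPH hmem
  rcases hPH.eq_or_lt with heq | hlt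
  · exact restrict_mem_of_eq hmem heq.ge fun x => rfl
  have hHS := hH.1
  haveI := finite_of_le hHS
  have hPS := hPH.trans hHS
  have hFS := hRi.1
  set φ := (H.subtype.comp a.toMonoidHom).comp (Subgroup.inclusion hPH) with hφd
  have hφH : ∀ x, φ x ∈ H := fun x => (a ⟨x, hPH x.2⟩).2
  have hrange : φ.range ≤ S := by rintro _ ⟨x, rfl⟩; exact hHS (hφH x)
  obtain ⟨P₁, hc₁, hn₁⟩ := exists_fullyNormalized R hrange
  obtain ⟨hfa, hrec⟩ := good_of_fullyNormalized p hS hR hn₁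
  obtain ⟨u, hu, huN, hum⟩ := exists_map_normalizer p hS hfa hrec hc₁
  have hle' : φ.range ≤ normalizerIn S φ.range := le_normalizerIn hrange
  have hφu : ∀ x, φ x ∈ normalizerIn S φ.range := fun x => hle' ⟨x, rfl⟩
  let ψ₀ : P →* Ω := u.comp (φ.codRestrict _ hφu)
  have hψ₀ : ψ₀ ∈ R.Hom P := R.comp_mem hmem hu hφu
  have hψ₀r : ψ₀.range = P₁ := by
    rw [← hum]
    ext y
    constructor
    · rintro ⟨x, rfl⟩
      exact ⟨⟨φ x, hφu x⟩, ⟨x, rfl⟩, rfl⟩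
    · rintro ⟨⟨_, hy⟩, ⟨x, rfl⟩, rfl⟩
      exact ⟨x, rfl⟩
  set N := normalizerIn H P
  have hPN : P < N := lt_normalizerIn p (isPGroup_of_le hS hHS) le_rfl hlt
  have hNH : N ≤ H := normalizerIn_le_S P
  have hNS : N ≤ S := hNH.trans hHS
  haveI := finite_of_le hNS
  let aN : N →* Ω := (H.subtype.comp a.toMonoidHom).comp (Subgroup.inclusion hNH)
  have haN : aN ∈ F.Hom N := restrict_mem ((autGroup_carrier hHS).1 ha) hNH
  have haNn : ∀ g : N, aN g ∈ normalizerIn S φ.range := by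
    intro g
    refine ⟨hHS (a ⟨g, hNH g.2⟩).2, mem_normalizer_of_conj_mem hrange ?_⟩
    rintro _ ⟨x, rfl⟩
    refine ⟨⟨(g : Ω) * x * (g : Ω)⁻¹, (Subgroup.mem_normalizer_iff.1 g.2.2 x).1 x.2⟩, ?_⟩
    exact aut_conj a _ _ _
  have hext : N ≤ extender S P ψ₀ := by
    intro g hg
    refine mem_extender_of ⟨hNS hg, hg.2⟩ (apply_mem_S hu ⟨aN ⟨g, hg⟩, haNn _⟩) fun x hx => ?_
    show u ⟨φ ⟨g * x * g⁻¹, hx⟩, _⟩ = u ⟨aN ⟨g, hg⟩, _⟩ * u ⟨φ x, _⟩ * (u ⟨aN ⟨g, hg⟩, _⟩)⁻¹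
    rw [← map_inv, ← map_mul, ← map_mul]
    refine apply_congr u ?_
    exact aut_conj a _ _ _
  obtain ⟨ψ, hψ, hψe⟩ := receptive_extend hrec hψ₀ hψ₀r hext
  have hψH : ∀ g : N, ψ g ∈ H := fun g =>
    map_mem_of_stronglyClosed hH (hFS N hψ) (hNH g.2)
  have huH : ∀ g : N, u ⟨aN g, haNn g⟩ ∈ H := fun g =>
    map_mem_of_stronglyClosed hH (hFS _ hu) (x := ⟨aN g, haNn g⟩) (a ⟨g, hNH g.2⟩).2
  have hP₁c : centralizerIn H P₁ ≤ P₁ := hP.2 P₁ ⟨ψ₀, hFS P hψ₀, hψ₀r⟩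
  have hP₁u : P₁ ≤ u.range := by
    rw [← hum]; exact Subgroup.map_le_range _ _
  have hψu : ∀ g : N, ψ g ∈ u.range := by
    intro g
    have hd : (u ⟨aN g, haNn g⟩)⁻¹ * ψ g ∈ P₁ := by
      refine hP₁c (mem_centralizerIn.2 ⟨H.mul_mem (H.inv_mem (huH g)) (hψH g), fun y hy => ?_⟩)
      obtain ⟨x, rfl⟩ := hψ₀r.ge hy
      have hgx : (g : Ω) * x * (g : Ω)⁻¹ ∈ P := (Subgroup.mem_normalizer_iff.1 g.2.2 x).1 x.2
      have h1 : ψ₀ ⟨_, hgx⟩ = ψ g * ψ₀ x * (ψ g)⁻¹ := by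
        rw [← hψe x x.2 (hPN.le x.2), ← hψe _ hgx (hPN.le hgx), ← map_inv, ← map_mul, ← map_mul]
        rfl
      have h2 : ψ₀ ⟨_, hgx⟩ = u ⟨aN g, haNn g⟩ * ψ₀ x * (u ⟨aN g, haNn g⟩)⁻¹ := by
        show u ⟨φ ⟨_, hgx⟩, _⟩ = u ⟨aN g, _⟩ * u ⟨φ x, hφu x⟩ * (u ⟨aN g, _⟩)⁻¹
        rw [← map_inv, ← map_mul, ← map_mul]
        refine apply_congr u ?_
        exact aut_conj a _ _ _
      set w := u ⟨aN g, haNn g⟩
      set v := ψ g
      set y := ψ₀ x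
      have h3 : w * y * w⁻¹ = v * y * v⁻¹ := h2.symm.trans h1
      calc y * (w⁻¹ * v) = w⁻¹ * (w * y * w⁻¹) * v := by group
        _ = w⁻¹ * (v * y * v⁻¹) * v := by rw [h3]
        _ = w⁻¹ * v * y := by group
    have e : ψ g = u ⟨aN g, haNn g⟩ * ((u ⟨aN g, haNn g⟩)⁻¹ * ψ g) := by group
    rw [e]
    exact u.range.mul_mem ⟨_, rfl⟩ (hP₁u hd)
  obtain ⟨ui, hui, huir, hui1, -⟩ := exists_inv hu rfl
  let χ : N →* Ω := ui.comp (ψ.codRestrict u.range hψu)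
  have hχ : χ ∈ R.Hom N := R.comp_mem hψ hui hψu
  have hχP : ∀ (x : Ω) (hx : x ∈ P) (hxN : x ∈ N), χ ⟨x, hxN⟩ = φ ⟨x, hx⟩ := fun x hx hxN =>
    (apply_congr ui (hψe x hx hxN)).trans (hui1 ⟨φ ⟨x, hx⟩, hφu _⟩ ⟨_, rfl⟩)
  -- `χ` and `a` differ by elements of `φ(P)`
  have hφc : centralizerIn H φ.range ≤ φ.range :=
    hP.2 _ ⟨φ, hFS P hmem, rfl⟩
  have hlay : ∀ g : N, (aN g)⁻¹ * χ g ∈ φ.range := by
    intro g
    refine hφc (mem_centralizerIn.2 ⟨H.mul_mem (H.inv_mem (a ⟨g, hNH g.2⟩).2)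
      (map_mem_of_stronglyClosed hH (hFS N hχ) (hNH g.2)), ?_⟩)
    rintro _ ⟨x, rfl⟩
    have hgx : (g : Ω) * x * (g : Ω)⁻¹ ∈ P := (Subgroup.mem_normalizer_iff.1 g.2.2 x).1 x.2
    have h1 : φ ⟨_, hgx⟩ = χ g * φ x * (χ g)⁻¹ := by
      rw [← hχP x x.2 (hPN.le x.2), ← hχP _ hgx (hPN.le hgx), ← map_inv, ← map_mul, ← map_mul]
      rfl
    have h2 : φ ⟨_, hgx⟩ = aN g * φ x * (aN g)⁻¹ := by
      exact aut_conj a _ _ _
    set w := aN g
    set v := χ g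
    set y := φ x
    have h3 : w * y * w⁻¹ = v * y * v⁻¹ := h2.symm.trans h1
    calc y * (w⁻¹ * v) = w⁻¹ * (w * y * w⁻¹) * v := by group
      _ = w⁻¹ * (v * y * v⁻¹) * v := by rw [h3]
      _ = w⁻¹ * v * y := by group
  have hφaN : φ.range ≤ aN.range := by
    rintro _ ⟨x, rfl⟩
    exact ⟨⟨x, hPN.le x.2⟩, rfl⟩
  have hreq : aN.range = χ.range := by
    refine (eq_of_le_of_card_le (by rintro _ ⟨g, rfl⟩; exact hHS (a ⟨g, hNH g.2⟩).2) ?_
      (by rw [card_range (hFS N hχ), card_range haN])).symm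
    rintro _ ⟨g, rfl⟩
    have e : χ g = aN g * ((aN g)⁻¹ * χ g) := by group
    rw [e]
    exact aN.range.mul_mem ⟨g, rfl⟩ (hφaN (hlay g))
  obtain ⟨χi, hχi, hχir, hχi1, hχi2⟩ := exists_inv hχ rfl
  let γ₀ : N →* Ω := χi.comp (aN.codRestrict χ.range fun x => hreq.le ⟨x, rfl⟩)
  have hγ₀ : γ₀ ∈ F.Hom N := F.comp_mem haN (hFS _ hχi) _
  have hγr : γ₀.range = N := by
    refine eq_of_le_of_card_le hNS ?_ (card_range hγ₀).ge
    rintro _ ⟨x, rfl⟩
    exact hχir.le ⟨_, rfl⟩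
  let γ := autOfRange γ₀ (F.injective_of_mem hγ₀) hγr
  have hγm : γ ∈ F.autGroup N := autOfRange_mem hγ₀ hγr
  have hγv : ∀ g : N, χ (γ g) = aN g := fun g => by
    exact hχi2 ⟨aN g, hreq.le ⟨g, rfl⟩⟩ (hχir.le ⟨_, rfl⟩)
  have hinjχ : Function.Injective χ := R.injective_of_mem hχ
  have hfix : ∀ g : N, (g : Ω) ∈ P → γ g = g := fun g hg => hinjχ <| by
    rw [hγv]
    exact (hχP g hg g.2).symm
  have hlayN : ∀ g : N, ((g⁻¹ * γ g : N) : Ω) ∈ P := by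
    intro g
    have h1 : (χ g)⁻¹ * aN g ∈ φ.range := by
      have := φ.range.inv_mem (hlay g)
      simpa using this
    obtain ⟨x, hx⟩ := h1
    have h2 : g⁻¹ * γ g = ⟨x, hPN.le x.2⟩ := hinjχ <| by
      rw [map_mul, map_inv, hγv, hχP x x.2 (hPN.le x.2)]
      exact hx.symm
    rw [h2]
    exact x.2
  haveI := finite_of_le hPS
  have hpow : γ ^ Nat.card P = 1 := by
    refine MulEquiv.ext fun x => ?_
    have h1 := pow_mul_fix γ (B := ⊤) (C := P.subgroupOf N) (N := 1) (fun y _ => hlayN y)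
      (fun y hy => Set.mem_of_eq_of_mem (hfix y hy) hy)
      (fun c hc => by rw [pow_one]; exact hfix c hc) x trivial
    rwa [one_mul, Nat.card_congr (Subgroup.subgroupOfEquivOfLe hPN.le).toEquiv] at h1
  obtain ⟨k, hk⟩ := IsPGroup.iff_card.1 (isPGroup_of_le hS hPS)
  rw [hk] at hpow
  haveI : Finite (MulAut N) := finite_mulAut
  obtain ⟨i, -, hi⟩ := (Nat.dvd_prime_pow (Fact.out : p.Prime)).1 (orderOf_dvd_of_pow_eq_one hpow)
  have hγR : γ ∈ R.autGroup N := hRi.2 N hNS ⟨⟨γ, hγm⟩,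
    Subgroup.subset_closure ⟨i, by rw [← Subgroup.orderOf_coe]; exact hi⟩, rfl⟩
  have haR : aN ∈ R.Hom N :=
    comp_mem_of_eq ((autGroup_carrier hNS).1 hγR) hχ (fun x => (γ x).2) fun x => (hγv x).symm
  refine IH (Nat.card H - Nat.card N) ?_ rfl (hP.mono hPN.le hNH) hNH haR
  have h1 : Nat.card P < Nat.card N :=
    lt_of_not_ge fun h => hPN.ne (eq_of_le_of_card_le hNS hPN.le h)
  have h2 := card_le_of_le hHS hNH
  omega

/-- The `p'`-residual of a weakly normal subsystem lies in `R`. -/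
theorem residual_le (hS : IsPGroup p S) (hR : R.IsSaturated p)
    (hRi : R.HasPrimeToPIndexIn F p) {D D' : FusionSystem H} (hD : D.IsWeaklyNormalIn F p)
    (hD' : D.IsPPrimeResidual p D') : D'.IsSubsystemOf R := by
  classical
  obtain ⟨hDs, hF, hinv⟩ := hD
  have hH := hinv.2.1
  have hHS := hH.1
  haveI := finite_of_le hHS
  have hHp := isPGroup_of_le hS hHS
  have hI : (interSystem D R hHS).IsSubsystemOf D := fun _ _ h => h.1
  have hcont : ContainsPParts D (interSystem D R hHS) p := by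
    intro P hP
    rw [MonoidHom.map_closure, Subgroup.closure_le]
    rintro _ ⟨a, ⟨k, hk⟩, rfl⟩
    refine (autGroup_carrier hP.1).2 ⟨(autGroup_carrier hP.1).1 a.2, ?_⟩
    have haF : (a : MulAut P) ∈ F.autGroup P := autGroup_mono' hinv.1 P a.2
    refine (autGroup_carrier (hP.1.trans hHS)).1 (hRi.2 P (hP.1.trans hHS)
      ⟨⟨a, haF⟩, Subgroup.subset_closure ⟨k, ?_⟩, rfl⟩)
    rw [← hk, ← Subgroup.orderOf_coe a]
    exact (Subgroup.orderOf_coe (⟨(a : MulAut P), haF⟩ : F.autGroup P)).symm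
  have hA : ∀ a ∈ residualAut D p,
      H.subtype.comp (a : MulAut H).toMonoidHom ∈ R.Hom H := by
    intro a ha
    suffices h : ∀ a ∈ residualAut D p, (a : MulAut H) ∈ (interSystem D R hHS).autGroup H from
      ((autGroup_carrier le_rfl).1 (h a ha)).2
    intro a ha
    induction ha using Subgroup.closure_induction with
    | mem a ha =>
      obtain ⟨P, hP, hm⟩ := ha
      refine (autGroup_carrier le_rfl).2 ⟨(autGroup_carrier le_rfl).1 a.2, ?_⟩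
      exact mem_of_restrict hS hR hRi hH (autGroup_mono' hinv.1 H a.2)
        (tcentric_of_centric hinv hP) hP.1 (hm.2 _ hI hcont).2
    | one => exact one_mem _
    | mul _ _ _ _ h h' => exact mul_mem h h'
    | inv _ _ h => exact inv_mem h
  have hv := isVal_residualVal hHp hDs
  have hsat := valKernel_saturated p hHp hDs hv
  obtain ⟨hidx, -, hcent⟩ := valKernel_primeToP p hHp hDs hv
  intro P φ hφ
  have hφK := hD'.2.2 _ hsat hidx P hφ
  obtain ⟨-, hfr, -⟩ := primeToP_of_centric p hHp hsat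
    (E := interSystem (valKernel hv) R hHS) (fun Q ψ h => h.1) fun Q hQ => by
      rw [MonoidHom.map_closure, Subgroup.closure_le]
      rintro _ ⟨a, ⟨k, hk⟩, rfl⟩
      refine (autGroup_carrier hQ.1).2 ⟨(autGroup_carrier hQ.1).1 a.2, ?_⟩
      have haF : (a : MulAut Q) ∈ F.autGroup Q :=
        autGroup_mono' (fun W ψ h => hinv.1 W (valKernel_sub hv W h)) Q a.2
      refine (autGroup_carrier (hQ.1.trans hHS)).1 (hRi.2 Q (hQ.1.trans hHS)
        ⟨⟨a, haF⟩, Subgroup.subset_closure ⟨k, ?_⟩, rfl⟩)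
      rw [← hk, ← Subgroup.orderOf_coe a]
      exact (Subgroup.orderOf_coe (⟨(a : MulAut Q), haF⟩ : F.autGroup Q)).symm
  obtain ⟨α, hα, φ₀, ⟨hφ₀, hφ₀R⟩, he⟩ := hfr P φ hφK
  have hαD : α ∈ D.autGroup H := autGroup_mono' (valKernel_sub hv) H hα
  obtain ⟨-, hv1⟩ := (mem_valKernel_iff hv isCentric_S).1 ((autGroup_carrier le_rfl).1 hα)
  have h1 : ResidualRel D p H (H.subtype.comp α.toMonoidHom) (QuotientGroup.mk ⟨α, hαD⟩) :=
    ⟨⟨α, hαD⟩, H.subtype, subtype_mem le_rfl, rfl, fun x hx => rfl⟩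
  rw [residualVal_eq isCentric_S h1, QuotientGroup.eq_one_iff] at hv1
  exact comp_mem_of_eq hφ₀R (hA _ hv1) (fun x => apply_mem_S hφ₀ x) fun x => he x _

end CfsgLib.SolvIndex
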