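import Cfsg.Agent.Fusion.SolvIndex.Main

/-!
Descent from a system, through subsystems normal in it, to one over `T C_S(T)` with the automizer
of a given normal subsystem on `T`.
-/

set_option autoImplicit false
set_option linter.style.haveILetI false
set_option linter.unusedSectionVars false

open Cfsg Cfsg.FusionSystem CfsgLib.Fusion CfsgLib.FocCent CfsgLib.NormExt

namespace CfsgLib.SolvIndex

universe u

variable {Ω : Type u} [Group Ω] {S S' S₁ T : Subgroup Ω} [Finite S] {F : FusionSystem S}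
  {G : FusionSystem S'} {G₁ : FusionSystem S₁} {E : FusionSystem T} {p : ℕ} [Fact p.Prime]

theorem normal_self (hS : IsPGroup p S) (hF : F.IsSaturated p) : F.IsNormalIn F p := by
  have hT : F.StronglyClosed S := ⟨le_rfl, fun R _ φ hφ x => apply_mem_S hφ x⟩
  refine ⟨weaklyNormal_of_between hS hF (fun _ _ h => h) (fun _ _ h => h)
    ⟨hF, hF, fun _ _ h => h, hT, fun P hP φ hφ α hα => ?_, fun P hP φ hφ => ?_⟩, fun α hα => ?_⟩
  · obtain ⟨f, hf, hfe⟩ := Mor.of_mem hφ
    obtain ⟨P', hP'⟩ := (mor_extAut le_rfl hα).exists_im hP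
    obtain ⟨g, hg, hgi, hg1, -⟩ := ((mor_extAut (F := F) le_rfl hα).mono hP).exists_inv hP'
    obtain ⟨χ, hχ, hχe⟩ := (hg.comp hf fun y hy => hgi.mem hy).comp
      (mor_extAut le_rfl hα) fun y hy => hf.mem_S (hgi.mem hy)
    have hle : (P.subgroupOf S).map (S.subtype.comp α.toMonoidHom) ≤ P' := by
      rintro _ ⟨x, hx, rfl⟩
      exact Set.mem_of_eq_of_mem (extAut_of_mem α x.2).symm (hP'.mem hx)
    refine ⟨_, restrict_mem hχ hle, fun x hφx hαx => ?_⟩
    refine (hχe _).trans ?_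
    show extAut α (f (g ((α ⟨x, hP x.2⟩ : S) : Ω))) = _
    rw [← extAut_of_mem α (hP x.2), hg1 _ x.2, hfe x, extAut_of_mem α hφx]
  · exact ⟨1, one_mem _, φ, hφ, fun x hx => rfl⟩
  · have hC : centralizerIn S S ≤ S := centralizerIn_le_S S
    have key : ∀ V : Subgroup Ω, V = S → ∀ hle : S ≤ V, ∃ β ∈ F.autGroup V,
        Agree hle β α := by
      rintro _ rfl hle
      exact ⟨α, hα, fun x => rfl⟩
    obtain ⟨β, hβ, hβe⟩ := key _ (sup_eq_left.2 hC) le_sup_left
    refine ⟨β, hβ, hβe, fun c hc => ?_⟩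
    have h1 := map_cent hβe (sup_le le_rfl hC) hc
    exact ⟨S.mul_mem (S.inv_mem hc.1) h1.1,
      Subgroup.mul_mem _ (Subgroup.inv_mem _ hc.2) h1.2⟩

/-- A subsystem over a subgroup containing its centralizer, stable under twisting, is normal. -/
theorem normal_of_twist (hS : IsPGroup p S) (hG : G.IsNormalIn F p) (hG₁ : G₁.IsSaturated p)
    (hsub : G₁.IsSubsystemOf G) (hcl : F.StronglyClosed S₁)
    (hC : centralizerIn S S₁ ≤ S₁)
    (htw : ∀ P, G₁.Hom P ⊆ (twistPart hcl.1 F G₁).Hom P)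
    (hfr : ∀ P, P ≤ S₁ → ∀ φ ∈ G.Hom P, ∃ a ∈ F.autGroup S₁, ∃ φ₀ ∈ G₁.Hom P,
      ∀ (x : P) (hx : φ₀ x ∈ S₁), φ x = ((a ⟨φ₀ x, hx⟩ : S₁) : Ω)) :
    G₁.IsNormalIn F p := by
  obtain ⟨⟨hGs, hF, hinv⟩, -⟩ := id hG
  have hS' := hinv.2.1.1
  have hS₁ : S₁ ≤ S' := le_of_subsystem hsub
  haveI := finite_of_le hcl.1
  refine ⟨⟨hG₁, hF, fun P φ h => hinv.1 P (hsub P h), hcl, fun P hP φ hφ α hα => ?_,
    fun P hP φ hφ => ?_⟩, fun α hα => ?_⟩
  · obtain ⟨f, hf, hfe⟩ := Mor.of_mem hφ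
    obtain ⟨P', hP'⟩ := (mor_extAut hcl.1 hα).exists_im hP
    obtain ⟨χ, hχ, hχe⟩ := (htw P hφ).2 α hα f (fun x => (hfe x).symm) P' hP'
    have hle : (P.subgroupOf S₁).map (S₁.subtype.comp α.toMonoidHom) ≤ P' := by
      rintro _ ⟨x, hx, rfl⟩
      exact Set.mem_of_eq_of_mem (extAut_of_mem α x.2).symm (hP'.mem hx)
    refine ⟨_, restrict_mem hχ hle, fun x hφx hαx => ?_⟩
    refine (hχe _).trans ?_
    show extAut α (f (extAut α⁻¹ ((α ⟨x, hP x.2⟩ : S₁) : Ω))) = _
    rw [← extAut_of_mem α (hP x.2), extAut_inv_apply, hfe x, extAut_of_mem α hφx]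
  · obtain ⟨A, hA, g, hg, hge⟩ := hinv.2.2.2 P (hP.trans hS₁) φ hφ
    obtain ⟨a, ha, φ₀, hφ₀, he⟩ := hfr P hP g hg
    obtain ⟨b, hb, hbA⟩ := exists_restrict_T hcl hS₁ hS' hA
    refine ⟨b * a, mul_mem hb ha, φ₀, hφ₀, fun x hx => ?_⟩
    rw [hge x (apply_mem_S hg x), MulAut.mul_apply, ← hbA]
    exact congrArg (fun z : S' => ((A z : S') : Ω)) (Subtype.ext (he x hx))
  · have hαF : α ∈ F.autGroup S₁ := autGroup_mono' (fun P φ h => hinv.1 P (hsub P h)) S₁ hα
    have key : ∀ V : Subgroup Ω, V = S₁ → ∀ hle : S₁ ≤ V, ∃ β ∈ F.autGroup V,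
        Agree hle β α := by
      rintro _ rfl hle
      exact ⟨α, hαF, fun x => rfl⟩
    obtain ⟨β, hβ, hβe⟩ := key _ (sup_eq_left.2 hC) le_sup_left
    refine ⟨β, hβ, hβe, fun c hc => ?_⟩
    have h1 := map_cent hβe (sup_le hcl.1 (centralizerIn_le_S S₁)) hc
    exact ⟨S₁.mul_mem (S₁.inv_mem (hC hc)) (hC h1),
      Subgroup.mul_mem _ (Subgroup.inv_mem _ hc.2) h1.2⟩

/-- Twisting an automorphism. -/
theorem aut_mem_twist (hS₁ : S₁ ≤ S) {Q : Subgroup Ω} (hQ : Q ≤ S₁) {u : MulAut Q}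
    (hu : u ∈ G₁.autGroup Q)
    (h : ∀ (P' : Subgroup Ω) (_ : P' ≤ S₁) (f : Ω → Ω) (e : Q ≃* P'), Mor F Q f → Im f Q P' →
      (∀ x : Q, ((e x : P') : Ω) = f x) → MulAut.congr e u ∈ G₁.autGroup P') :
    Q.subtype.comp u.toMonoidHom ∈ (twistPart hS₁ F G₁).Hom Q := by
  refine ⟨(autGroup_carrier hQ).1 hu, fun β hβ f hf P' hi => ?_⟩
  have hP'S₁ : P' ≤ S₁ := fun y hy => by
    obtain ⟨x, hx, rfl⟩ := hi.surj hy
    exact extAut_mem β (hQ hx)
  have hM := (mor_extAut hS₁ hβ).mono hQ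
  obtain ⟨e, hev, -⟩ := hM.exists_equiv le_rfl hi
  obtain ⟨m, hm, -, hme⟩ := exists_mor_of_aut hP'S₁ (h P' hP'S₁ _ e hM hi hev)
  refine hm.congr fun y hy => ?_
  obtain ⟨x, hx, rfl⟩ := hi.surj hy
  have h3 := hme (e ⟨x, hx⟩)
  rw [hev] at h3
  rw [h3, extAut_inv_apply, ← hf ⟨x, hx⟩]
  show _ = ((e (u (e.symm (e ⟨x, hx⟩))) : P') : Ω)
  rw [e.symm_apply_apply, hev]
  rfl

theorem orderOf_congr {Q R : Subgroup Ω} (e : Q ≃* R) (u : MulAut Q) :
    orderOf (MulAut.congr e u) = orderOf u :=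
  orderOf_injective (MulAut.congr e).toMonoidHom (MulAut.congr e).injective u

/-- A subsystem of `p`-power index of an invariant system is stable under twisting. -/
theorem twist_of_pPower (hS : IsPGroup p S) (hinv : G.IsInvariantIn F)
    (hG₁ : G₁.IsSaturated p) (hi : G₁.HasPPowerIndexIn G p) (hS₁S : S₁ ≤ S) :
    ∀ P, G₁.Hom P ⊆ (twistPart hS₁S F G₁).Hom P := by
  have hS₁' : S₁ ≤ S' := le_of_subsystem hi.1
  haveI := finite_of_le hS₁S
  have hp := isPGroup_of_le hS hS₁S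
  refine alperin_saturated p hp hG₁ _ fun Q hQ => ?_
  have hQS₁ : Q ≤ S₁ := by
    rcases hQ with rfl | hQ
    exacts [le_rfl, hQ.1.1]
  have hQfn : G₁.IsFullyNormalized Q := by
    rcases hQ with rfl | hQ
    exacts [isFullyNormalized_S, hQ.2.1]
  obtain ⟨-, R, hR⟩ := (good_of_fullyNormalized p hp hG₁ hQfn).1
  haveI := finite_of_le (hQS₁.trans hS₁S)
  haveI : Finite (MulAut Q) := finite_mulAut
  set X := (twistPart hS₁S F G₁).autGroup Q with hX
  have hcop : ∀ u ∈ G₁.autGroup Q, (orderOf u).Coprime p → u ∈ X := by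
    intro u hu hco
    refine (autGroup_carrier hQS₁).2 (aut_mem_twist hS₁S hQS₁ hu fun P' hP' f e hf hfi he => ?_)
    have h1 := autGroup_transfer hinv (hQS₁.trans hS₁') hf hfi e he (autGroup_mono' hi.1 Q hu)
    refine hi.2.2 P' hP' ⟨⟨_, h1⟩, Subgroup.subset_closure ?_, rfl⟩
    show Nat.Coprime (orderOf (⟨_, h1⟩ : G.autGroup P')) p
    rwa [← Subgroup.orderOf_coe, orderOf_congr]
  have hsyl : ∀ u ∈ autInducedBy S₁ Q, u ∈ X := fun u hu =>
    autInducedBy_le_autGroup hQS₁ hu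
  -- a group generated by a Sylow subgroup and the elements of order prime to `p`
  let B : Subgroup (G₁.autGroup Q) := X.subgroupOf (G₁.autGroup Q)
  have hRB : (R : Subgroup (G₁.autGroup Q)) ≤ B := by
    rw [hR]
    exact fun u hu => hsyl _ hu
  intro u hu
  obtain ⟨m, hm⟩ := WeakEmb.exists_pow_coprime p u
  let K : Subgroup (G₁.autGroup Q) :=
    Subgroup.closure {v | Nat.Coprime (orderOf v) p} ⊔ (R : Subgroup (G₁.autGroup Q))
  have hKB : K ≤ B := sup_le ((Subgroup.closure_le _).2 fun v hv =>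
    hcop _ v.2 (by show Nat.Coprime (orderOf (v : MulAut Q)) p; rwa [Subgroup.orderOf_coe])) hRB
  haveI hcl : (Subgroup.closure {v : G₁.autGroup Q | Nat.Coprime (orderOf v) p}).Normal := by
    refine ⟨fun v hv g => ?_⟩
    induction hv using Subgroup.closure_induction with
    | mem v hv =>
      refine Subgroup.subset_closure ?_
      show Nat.Coprime (orderOf (g * v * g⁻¹)) p
      rwa [← MulAut.conj_apply, show orderOf (MulAut.conj g v) = orderOf v from
        orderOf_injective (MulAut.conj g).toMonoidHom (MulAut.conj g).injective v]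
    | one => simp
    | mul a b _ _ iha ihb => simpa [mul_assoc] using mul_mem iha ihb
    | inv a _ iha => simpa [mul_assoc] using inv_mem iha
  have htop : K = ⊤ := by
    haveI : K.Normal := by
      refine ⟨fun v hv g => ?_⟩
      rw [← SetLike.mem_coe, Subgroup.normal_mul] at hv
      obtain ⟨a, ha, r, hr, rfl⟩ := hv
      rw [show g * (a * r) * g⁻¹ = g * a * g⁻¹ * (g * r * g⁻¹) by group]
      refine mul_mem (Subgroup.mem_sup_left (hcl.conj_mem a ha g)) ?_
      obtain ⟨j, hj⟩ := WeakEmb.exists_pow_coprime p g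
      have hp2 : IsPGroup p (↥(G₁.autGroup Q) ⧸
          Subgroup.closure {v : G₁.autGroup Q | Nat.Coprime (orderOf v) p}) := by
        intro x
        induction x using QuotientGroup.induction_on with
        | H y =>
          obtain ⟨k, hk⟩ := WeakEmb.exists_pow_coprime p y
          exact ⟨k, (QuotientGroup.eq_one_iff _).2 (Subgroup.subset_closure hk)⟩
      let π := QuotientGroup.mk' (Subgroup.closure {v : G₁.autGroup Q | Nat.Coprime (orderOf v) p})
      have hmap : (R : Subgroup (G₁.autGroup Q)).map π = ⊤ := by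
        have := (R.mapSurjective (QuotientGroup.mk'_surjective _ : Function.Surjective π))
          |>.is_maximal' (hp2.to_subgroup ⊤) le_top
        rw [Sylow.coe_mapSurjective] at this
        exact this.symm
      obtain ⟨r', hr', he⟩ := hmap.ge (Subgroup.mem_top (π (g * r * g⁻¹)))
      have h2 : g * r * g⁻¹ * r'⁻¹ ∈
          Subgroup.closure {v : G₁.autGroup Q | Nat.Coprime (orderOf v) p} := by
        rw [← QuotientGroup.eq_one_iff]
        show π (g * r * g⁻¹ * r'⁻¹) = 1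
        rw [map_mul, map_inv, he, mul_inv_cancel]
      simpa using mul_mem (Subgroup.mem_sup_left h2)
        (Subgroup.mem_sup_right hr' : r' ∈ K)
    rw [eq_top_iff]
    intro y _
    obtain ⟨k, hk⟩ := WeakEmb.exists_pow_coprime p y
    rw [← QuotientGroup.eq_one_iff (N := K)]
    have h1 : ¬ p ∣ K.index := fun hd =>
      R.not_dvd_index (hd.trans (Subgroup.index_dvd_of_le le_sup_right))
    rw [← orderOf_eq_one_iff]
    refine Nat.eq_one_of_dvd_coprimes (Nat.Coprime.pow_left k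
      ((Fact.out : p.Prime).coprime_iff_not_dvd.2 h1)) ?_ (orderOf_dvd_natCard _)
    refine orderOf_dvd_of_pow_eq_one ((QuotientGroup.eq_one_iff _).2 ?_)
    exact Subgroup.mem_sup_left (Subgroup.subset_closure hk)
  exact hKB (htop.ge (Subgroup.mem_top (⟨u, hu⟩ : G₁.autGroup Q)))

/-- A subsystem of index prime to `p` whose automizer of the whole group is stable is stable under
twisting. -/
theorem twist_of_primeTo {G₀ : FusionSystem S'} (hS : IsPGroup p S)
    (hinv : G.IsInvariantIn F) (hG₀ : G₀.IsSaturated p) (hi : G₀.HasPrimeToPIndexIn G p)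
    (htop : ∀ b ∈ F.autGroup S', ∀ α ∈ G₀.autGroup S', b * α * b⁻¹ ∈ G₀.autGroup S') :
    ∀ P, G₀.Hom P ⊆ (twistPart hinv.2.1.1 F G₀).Hom P := by
  have hS'S := hinv.2.1.1
  haveI := finite_of_le hS'S
  have hp := isPGroup_of_le hS hS'S
  intro P φ hφ
  obtain ⟨-, hfr, -⟩ := primeToP_of_centric p hp hG₀ (E := twistPart hS'S F G₀)
    (fun Q ψ h => h.1) fun Q hQ => by
      rw [MonoidHom.map_closure, Subgroup.closure_le]
      rintro _ ⟨u, ⟨k, hk⟩, rfl⟩
      refine (autGroup_carrier hQ.1).2 (aut_mem_twist hS'S hQ.1 u.2 fun P' hP' f e hf hfi he => ?_)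
      have h1 := autGroup_transfer hinv hQ.1 hf hfi e he (autGroup_mono' hi.1 Q u.2)
      refine hi.2 P' hP' ⟨⟨_, h1⟩, Subgroup.subset_closure ⟨k, ?_⟩, rfl⟩
      rw [← Subgroup.orderOf_coe]
      show orderOf (MulAut.congr e (u : MulAut Q)) = _
      rw [orderOf_congr, Subgroup.orderOf_coe, hk]
  obtain ⟨α, hα, φ₀, hφ₀, he⟩ := hfr P φ hφ
  have hαtw : S'.subtype.comp α.toMonoidHom ∈ (twistPart hS'S F G₀).Hom S' := by
    refine ⟨(autGroup_carrier le_rfl).1 hα, fun β hβ f hf P' hi' => ?_⟩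
    have hP' : P' ≤ S' := fun y hy => by
      obtain ⟨x, hx, rfl⟩ := hi'.surj hy
      exact extAut_mem β hx
    have hm : Mor G₀ S' (extAut (β * α * β⁻¹)) :=
      ⟨_, (autGroup_carrier le_rfl).1 (htop β hβ α hα), fun x => (extAut_of_mem _ x.2).symm⟩
    refine (hm.mono hP').congr fun y hy => ?_
    rw [extAut_mul, extAut_mul, extAut_of_mem α (extAut_mem β⁻¹ (hP' hy)),
      ← hf ⟨_, extAut_mem β⁻¹ (hP' hy)⟩]
    rfl
  exact comp_mem_of_eq hφ₀ hαtw (fun x => apply_mem_S hφ₀ x) fun x => he x _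

theorem limit_sub {U : Subgroup Ω} {A : FusionSystem U} {q : ℕ} (h : A.IsResidualLimitOf F q) :
    A.IsSubsystemOf F := by
  induction h with
  | stable F q _ _ => exact fun _ _ h => h
  | step F q D D' h1 h2 _ ih => exact fun P φ h => h1.2.1 P (h2.2.1.1 P (ih P h))

/-- A stage of the descent. -/
structure Stage (F : FusionSystem S) (E : FusionSystem T) (p : ℕ) (G : FusionSystem S') : Prop where
  normal : G.IsNormalIn F p
  top : T ⊔ centralizerIn S T ≤ S'
  sub : E.IsSubsystemOf G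
  coprime : ∀ α ∈ E.autGroup T, ∀ β ∈ F.autGroup (T ⊔ centralizerIn S T),
    (orderOf β).Coprime p → Agree le_sup_left β α → β ∈ G.autGroup (T ⊔ centralizerIn S T)
  limit : ∀ {U V : Subgroup Ω} (A : FusionSystem U) (B : FusionSystem V),
    A.IsResidualLimitOf F p → B.IsResidualLimitOf G p → SameMaps A B

theorem Stage.normalE (hS : IsPGroup p S) (hE : E.IsNormalIn F p) (h : Stage F E p G) :
    E.IsNormalIn G p :=
  normal_of_between hS h.normal.1.1 h.normal.1.2.2.1 h.sub hE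
    (le_sup_right.trans h.top) h.coprime

theorem Stage.cent (h : Stage F E p G) : centralizerIn S' T = centralizerIn S T :=
  le_antisymm (fun c hc => ⟨h.normal.1.2.2.2.1.1 hc.1, hc.2⟩)
    fun c hc => ⟨h.top (Subgroup.mem_sup_right hc), hc.2⟩

theorem Stage.invariant_aut (h : Stage F E p G) (hTS' : T ≤ S') {b : MulAut T}
    (hb : b ∈ F.autGroup T) {k : MulAut T} (hk : k ∈ G.autGroup T) :
    b * k * b⁻¹ ∈ G.autGroup T :=
  invariant_conj_aut h.normal.1.2.2 hTS' hb hk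

/-- **The descent.** -/
theorem exists_stage (hS : IsPGroup p S) (hE : E.IsNormalIn F p)
    (hlay : Layered p (E.autGroup T) (F.autGroup T)) (hG : Stage F E p G) :
    ∃ (S₂ : Subgroup Ω) (G₂ : FusionSystem S₂),
      Stage F E p G₂ ∧ G₂.autGroup T = E.autGroup T := by
  induction hn : homCount G using Nat.strong_induction_on generalizing S' with
  | _ n IH =>
  obtain ⟨⟨hGs, hF, hinv⟩, -⟩ := id hG.normal
  have hS'S : S' ≤ S := hinv.2.1.1
  haveI := finite_of_le hS'S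
  have hS' := isPGroup_of_le hS hS'S
  have hEG := hG.normalE hS hE
  obtain ⟨⟨-, -, hEinv⟩, -⟩ := id hEG
  have hTS' : T ≤ S' := le_sup_left.trans hG.top
  have hTS : T ≤ S := hTS'.trans hS'S
  have hTc : F.StronglyClosed T := hE.1.2.2.2.1
  haveI := finite_of_le hTS
  haveI : Finite (MulAut T) := finite_mulAut
  have hBK : E.autGroup T ≤ G.autGroup T := autGroup_mono' hEinv.1 T
  have hKA : G.autGroup T ≤ F.autGroup T := autGroup_mono' hinv.1 T
  rcases hBK.eq_or_lt with heq | hlt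
  · exact ⟨S', G, hG, heq.symm⟩
  obtain ⟨N, hBN, hNK, hNn, hNA, hidx⟩ := hlay _ hKA hlt
  haveI := hNn
  have hNA' : ∀ b ∈ F.autGroup T, ∀ k ∈ N, b * k * b⁻¹ ∈ N := fun b hb =>
    hNA b hb fun k hk => hG.invariant_aut hTS' hb hk
  let Q := ↥(G.autGroup T) ⧸ N.subgroupOf (G.autGroup T)
  have hQ : Nat.card Q = N.relIndex (G.autGroup T) := rfl
  haveI : Nontrivial Q := by
    rw [← Finite.one_lt_card_iff_nontrivial, hQ]
    refine Nat.lt_of_le_of_ne (Nat.pos_of_ne_zero fun h => ?_) fun h => hNK.not_ge ?_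
    · rw [← hQ] at h
      exact (Nat.card_pos (α := Q)).ne' h
    · exact Subgroup.relIndex_eq_one.1 h.symm
  have hker : (E.autGroup T).subgroupOf (G.autGroup T) ≤ N.subgroupOf (G.autGroup T) :=
    Subgroup.comap_mono hBN
  -- conjugation by `Aut_F(T)` fixes the kernel of `Aut_G(T) → Q`
  let σ : ∀ b ∈ F.autGroup T, G.autGroup T →* G.autGroup T := fun b hb =>
    ((MulAut.conj b).toMonoidHom.comp (G.autGroup T).subtype).codRestrict _ fun k =>
      hG.invariant_aut hTS' hb k.2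
  rcases hidx with ⟨m, hm⟩ | hco
  · have hQp : IsPGroup p Q := IsPGroup.of_card (n := m) (by rw [hQ, hm])
    haveI : Group.IsNilpotent Q := hQp.isNilpotent
    have hc : commutator Q < ⊤ := Group.IsSolvable.commutator_lt_top_of_nontrivial Q
    let π : ↥(G.autGroup T) →* Abelianization Q :=
      Abelianization.of.comp (QuotientGroup.mk' _)
    haveI : Finite (Abelianization Q) := inferInstanceAs (Finite (Q ⧸ commutator Q))
    haveI : Nontrivial (Abelianization Q) := QuotientGroup.nontrivial_iff.2 hc.ne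
    have hkerπ : (E.autGroup T).subgroupOf (G.autGroup T) ≤ π.ker := fun x hx => by
      show Abelianization.of (QuotientGroup.mk' _ x) = 1
      rw [show (QuotientGroup.mk' (N.subgroupOf (G.autGroup T)) x : Q) = 1 from
        (QuotientGroup.eq_one_iff _).2 (hker hx), map_one]
    have hπσ : ∀ b (hb : b ∈ F.autGroup T) (k : G.autGroup T), π k = 1 → π (σ b hb k) = 1 := by
      intro b hb k hk
      let σQ : Q →* Q := QuotientGroup.map _ _ (σ b hb) fun x hx => hNA' b hb _ hx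
      show Abelianization.map σQ (π k) = 1
      rw [hk, map_one]
    obtain ⟨S₁, G₁, hn₁, hi₁, hE₁, hlt₁, hS₁n, htop₁, hS₁x⟩ := exists_p_step hS' hEG
      (hQp.of_surjective Abelianization.of (QuotientGroup.mk'_surjective _)) π
      (show Function.Surjective π from
        (show Function.Surjective (Abelianization.of : Q →* Abelianization Q) from
          QuotientGroup.mk'_surjective _).comp (QuotientGroup.mk'_surjective _)) hkerπ
    have hS₁' : S₁ ≤ S' := le_of_subsystem hi₁.1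
    rw [hG.cent] at htop₁
    have hTS₁ : T ≤ S₁ := le_sup_left.trans htop₁
    have hcl : F.StronglyClosed S₁ := by
      refine ⟨hS₁'.trans hS'S, fun R hR φ hφ x => ?_⟩
      obtain ⟨ψ, hψ, hψx⟩ := exists_lift hS hF hTc hφ
      set x' := Subgroup.inclusion (le_sup_left : R ≤ R ⊔ T) x
      obtain ⟨hx1, a, ha, hax⟩ := (hS₁x x).1 (hR x.2)
      have hr : (ψ.comp (Subgroup.inclusion (le_sup_right : T ≤ R ⊔ T))).range = T := by
        rw [range_restrict, map_ker_eq hTc hψ le_sup_right]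
      have hψT := restrict_mem hψ (le_sup_right : T ≤ R ⊔ T)
      set b := autOfRange _ (F.injective_of_mem hψT) hr
      have hbF : b ∈ F.autGroup T := autOfRange_mem hψT hr
      have hyS' : φ x ∈ S' := hinv.2.1.2 R (hR.trans hS₁') φ hφ x
      have hv : ψ x' ∈ S₁ := by
        refine (hS₁x _).2 ⟨?_, σ b hbF a, hπσ b hbF a ha, fun t => ?_⟩
        · have h2 : ψ x' = φ x * ((φ x)⁻¹ * ψ x') := by group
          rw [h2]
          exact S'.mul_mem hyS' (hTS' (hψx x))
        · show ((b ((a : MulAut T) (b⁻¹ t)) : T) : Ω) = ψ x' * t * (ψ x')⁻¹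
          show ψ (Subgroup.inclusion le_sup_right ((a : MulAut T) (b⁻¹ t))) = _
          have e : Subgroup.inclusion (le_sup_right : T ≤ R ⊔ T) ((a : MulAut T) (b⁻¹ t)) =
              x' * Subgroup.inclusion le_sup_right (b⁻¹ t) * x'⁻¹ := Subtype.ext (hax _)
          rw [e, map_mul, map_mul, map_inv,
            show ψ (Subgroup.inclusion le_sup_right (b⁻¹ t)) = (t : Ω) from
              congrArg Subtype.val (MulAut.apply_inv_self T b t)]
      have h3 := S₁.mul_mem hv (S₁.inv_mem (hTS₁ (hψx x)))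
      have e3 : ψ x' * ((φ x)⁻¹ * ψ x')⁻¹ = φ x := by group
      exact Set.mem_of_eq_of_mem e3.symm h3
    have hCS₁ : centralizerIn S S₁ ≤ S₁ := fun c hc =>
      htop₁ (Subgroup.mem_sup_right ⟨hc.1, fun t ht => hc.2 t (hTS₁ ht)⟩)
    have hnorm₁ : G₁.IsNormalIn F p := by
      refine normal_of_twist hS hG.normal hn₁.1.1 hi₁.1 hcl hCS₁
        (twist_of_pPower hS hinv hn₁.1.1 hi₁ hcl.1) fun P hP φ hφ => ?_
      obtain ⟨s, hs, φ₀, hφ₀, he⟩ := pPowerIndex_frattini p hS' hGs hS₁' hS₁n hi₁.2.1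
        hn₁.1.1 hi₁ hP hφ
      have hsn : s ∈ S ⊓ Subgroup.normalizer (S₁ : Set Ω) := ⟨hS'S hs, hS₁n hs⟩
      exact ⟨conjAut S S₁ ⟨s, hsn⟩, autInducedBy_le_autGroup hcl.1
        (mem_autInducedBy.2 ⟨s, hsn.1, fun _ => rfl⟩), φ₀, hφ₀, fun x hx => he x⟩
    refine IH _ (hn ▸ hlt₁) ⟨hnorm₁, htop₁, ?_, fun α hα β hβ hco hAg => ?_, ?_⟩ rfl
    · exact hE₁.1.2.2.1
    · have hβG := hG.coprime α hα β hβ hco hAg
      refine hi₁.2.2 _ htop₁ ⟨⟨β, hβG⟩, Subgroup.subset_closure ?_, rfl⟩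
      show Nat.Coprime (orderOf (⟨β, hβG⟩ : ↥(G.autGroup (T ⊔ centralizerIn S T)))) p
      rwa [← Subgroup.orderOf_coe]
    · intro U V A B hA hB
      haveI := finite_of_le (hS₁'.trans hS'S)
      obtain ⟨U', A', hA'⟩ := exists_limit hS' hGs
      exact SameMaps.trans (hG.limit A A' hA hA')
        (residualLimit_eq_of_pPowerIndex p hS' hGs hn₁ hi₁ hA' hB)
  · obtain ⟨G₀, hG₀, hi₀, hE₀, hlt₀, hiff⟩ := exists_p'_step hS' hEG
      (QuotientGroup.mk' (N.subgroupOf (G.autGroup T))) (QuotientGroup.mk'_surjective _)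
      hco (by rwa [QuotientGroup.ker_mk'])
    have hclG : G.StronglyClosed T := hEinv.2.1
    have hC : centralizerIn S S' ≤ S' := fun c hc =>
      hG.top (Subgroup.mem_sup_right ⟨hc.1, fun t ht => hc.2 t (hTS' ht)⟩)
    have htop : ∀ b ∈ F.autGroup S', ∀ α ∈ G₀.autGroup S', b * α * b⁻¹ ∈ G₀.autGroup S' := by
      intro b hb α hα
      have hαG := autGroup_mono' hi₀.1 S' hα
      obtain ⟨b', hb', hbb'⟩ := exists_restrict_T hTc hTS' hS'S hb
      obtain ⟨a, ha, haα⟩ := exists_restrict_T hclG hTS' le_rfl hαG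
      have h1 : QuotientGroup.mk' (N.subgroupOf (G.autGroup T)) ⟨a, ha⟩ = 1 :=
        (hiff S' hTS' isCentric_S α hαG ⟨a, ha⟩ fun x hx => haα ⟨x, hx⟩).1 hα
      refine (hiff S' hTS' isCentric_S _ (invariant_conj_aut hinv le_rfl hb hαG) (σ b' hb' ⟨a, ha⟩)
        fun x hx => ((hbb'.mul haα).mul hbb'.inv) ⟨x, hx⟩).2 ?_
      exact (QuotientGroup.eq_one_iff _).2
        (hNA' b' hb' a (Subgroup.mem_subgroupOf.1 ((QuotientGroup.eq_one_iff _).1 h1)))
    have hnorm₀ : G₀.IsNormalIn F p := by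
      refine normal_of_twist hS hG.normal hG₀ hi₀.1 hinv.2.1 hC
        (twist_of_primeTo hS hinv hG₀ hi₀ htop) fun P hP φ hφ => ?_
      obtain ⟨α, hα, φ₀, hφ₀, he⟩ := (primeToP_of_centric p hS' hGs hi₀.1
        fun Q hQ => hi₀.2 Q hQ.1).2.1 P φ hφ
      exact ⟨α, autGroup_mono' hinv.1 S' hα, φ₀, hφ₀, he⟩
    refine IH _ (hn ▸ hlt₀) ⟨hnorm₀, hG.top, hE₀.1.2.2.1, fun α hα β hβ hco hAg => ?_, ?_⟩ rfl
    · have hβG := hG.coprime α hα β hβ hco hAg
      have hU : G.IsCentric (T ⊔ centralizerIn S T) := by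
        rw [← hG.cent]
        exact isCentric_sup_centralizer ⟨hTS', fun Q hQ => by
          obtain ⟨φ, hφ, rfl⟩ := hQ
          rw [(weaklyClosed_of_stronglyClosed hclG).2 φ hφ]⟩
      exact (hiff _ le_sup_left hU β hβG ⟨α, hBK hα⟩ fun x hx => hAg ⟨x, hx⟩).2
        ((QuotientGroup.eq_one_iff _).2 (hker (Subgroup.mem_subgroupOf.2 hα)))
    · intro U V A B hA hB
      obtain ⟨U', A', hA'⟩ := exists_limit hS' hGs
      exact SameMaps.trans (hG.limit A A' hA hA') (sameLimit_primeIndex hS' hGs hG₀ hi₀ hA' hB)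

/-- A normal subsystem over `T C_S(T)` with the automizer of `E` on `T`. -/
theorem exists_reduced (hS : IsPGroup p S) (hE : E.IsNormalIn F p)
    (hlay : Layered p (E.autGroup T) (F.autGroup T)) :
    ∃ F₀ : FusionSystem (T ⊔ centralizerIn S T), Stage F E p F₀ ∧
      F₀.autGroup T = E.autGroup T := by
  obtain ⟨⟨-, hF, hinv⟩, -⟩ := id hE
  have hTS := hinv.2.1.1
  obtain ⟨S₂, G₂, hG₂, heq⟩ := exists_stage hS hE hlay
    (G := F) ⟨normal_self hS hF, sup_le hTS (centralizerIn_le_S T), hinv.1,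
      fun _ _ β hβ _ _ => hβ, fun A B hA hB => limit_unique p hA rfl inferInstance hS hF hB⟩
  have hS₂ : S₂ = T ⊔ centralizerIn S T := by
    refine le_antisymm ?_ hG₂.top
    haveI := finite_of_le (hG₂.normal.1.2.2.2.1.1)
    rw [← hG₂.cent]
    exact le_sup_centralizer (isPGroup_of_le hS hG₂.normal.1.2.2.2.1.1)
      (hG₂.normalE hS hE).1 heq.le
  subst hS₂
  exact ⟨G₂, hG₂, heq⟩

end CfsgLib.SolvIndex
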