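import Cfsg.Agent.Fusion.Factor
import Cfsg.Agent.Fusion.FocalCentralizerNormal
import Cfsg.Agent.Fusion.NormalExtension
import Cfsg.Agent.Fusion.WeaklyEmbedded
import Cfsg.Agent.Fusion.SolvIndex.SameLimit

/-!
Maps of a system modulo a strongly closed subgroup, and normality in an intermediate system.
-/

set_option autoImplicit false
set_option linter.style.haveILetI false
set_option linter.unusedSectionVars false

open Cfsg Cfsg.FusionSystem CfsgLib.Fusion CfsgLib.FocCent CfsgLib.NormExt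

namespace CfsgLib.SolvIndex

universe u

variable {Ω : Type u} [Group Ω] {S T : Subgroup Ω} [Finite S] {F : FusionSystem S} {p : ℕ}
  [Fact p.Prime]

/-- Every map agrees modulo `T` with a map on the join with `T`. -/
theorem exists_lift (hS : IsPGroup p S) (hF : F.IsSaturated p) (hT : F.StronglyClosed T)
    {P : Subgroup Ω} {φ : P →* Ω} (hφ : φ ∈ F.Hom P) :
    ∃ ψ ∈ F.Hom (P ⊔ T),
      ∀ x : P, (φ x)⁻¹ * ψ (Subgroup.inclusion le_sup_left x) ∈ T := by
  haveI hn : (T.subgroupOf S).Normal :=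
    Subgroup.normal_subgroupOf_of_le_normalizer (stronglyClosed_normal_in_S hT)
  let θ : S →* ↥S ⧸ T.subgroupOf S := QuotientGroup.mk' (T.subgroupOf S)
  have hk : ∀ s : S, θ s = 1 ↔ (s : Ω) ∈ T := fun s =>
    QuotientGroup.eq_one_iff (N := T.subgroupOf S) s
  let Q := factorSystem (F := F) (θ := θ) (S' := θ.range) hT hk rfl
  have hQ : F.IsFactorSystem T θ Q := factorSystem_spec hT hk rfl
  obtain ⟨φ', hφ', hi⟩ := induces_of_mem hT hQ p hS hF hφ
  obtain ⟨ψ, hψ, hi'⟩ := exists_lift_hom hQ hφ'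
  have hPS := le_of_mem_hom hφ
  have hle : P ⊔ T ≤ preimg θ (img θ P) :=
    sup_le (fun x hx => mem_preimg.2 ⟨hPS hx, apply_mem_img (ι := θ) (x := ⟨x, hPS hx⟩) hx⟩)
      (ker_le_preimg hT.1 hk _)
  refine ⟨ψ.comp (Subgroup.inclusion hle), restrict_mem hψ hle, fun x => ?_⟩
  have hφS := apply_mem_S hφ x
  have hψS := apply_mem_S hψ (Subgroup.inclusion hle (Subgroup.inclusion le_sup_left x))
  have hm : θ ⟨x, hPS x.2⟩ ∈ img θ P := apply_mem_img (ι := θ) (x := ⟨x, hPS x.2⟩) x.2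
  have h1 := induced_apply hi x (hP := hPS x.2) (hφ := hφS) (hP' := hm)
  have h2 := induced_apply hi' (Subgroup.inclusion hle (Subgroup.inclusion le_sup_left x))
    (hP := hPS x.2) (hφ := hψS) (hP' := hm)
  have h3 : θ ((⟨φ x, hφS⟩ : S)⁻¹ * ⟨_, hψS⟩) = 1 := by
    rw [map_mul, map_inv, ← h1, ← h2]
    exact inv_mul_cancel _
  exact (hk _).1 h3

/-- Every automorphism agrees modulo `T` with an automorphism of the join with `T`. -/
theorem exists_aut_lift (hS : IsPGroup p S) (hF : F.IsSaturated p) (hT : F.StronglyClosed T)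
    {P : Subgroup Ω} (hP : P ≤ S) {α : MulAut P} (hα : α ∈ F.autGroup P) :
    ∃ β ∈ F.autGroup (P ⊔ T), ∀ x : P,
      ((α x : P) : Ω)⁻¹ * ((β (Subgroup.inclusion le_sup_left x) : ↥(P ⊔ T)) : Ω) ∈ T := by
  obtain ⟨ψ, hψ, hψx⟩ := exists_lift hS hF hT ((autGroup_carrier hP).1 hα)
  have hU : P ⊔ T ≤ S := sup_le hP hT.1
  have hr : ψ.range = P ⊔ T := by
    refine eq_of_le_of_card_le hU ?_ (card_range hψ).ge
    rw [range_eq_sup, map_ker_eq hT hψ le_sup_right]
    refine sup_le ?_ le_sup_right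
    intro y hy
    obtain ⟨x, hx, hxP, rfl⟩ := mem_map_subgroupOf.1 hy
    have e : ψ ⟨x, hx⟩ = ((α ⟨x, hxP⟩ : P) : Ω) *
        (((α ⟨x, hxP⟩ : P) : Ω)⁻¹ * ψ (Subgroup.inclusion le_sup_left ⟨x, hxP⟩)) := by
      rw [mul_inv_cancel_left]
      rfl
    rw [e]
    exact Subgroup.mul_mem_sup (α ⟨x, hxP⟩).2 (hψx ⟨x, hxP⟩)
  exact ⟨_, autOfRange_mem hψ hr, fun x => hψx x⟩

theorem exists_restrict_T (hT : F.StronglyClosed T) {U : Subgroup Ω} (hTU : T ≤ U) (hU : U ≤ S)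
    {β : MulAut U} (hβ : β ∈ F.autGroup U) :
    ∃ b ∈ F.autGroup T, Agree hTU β b := by
  haveI := finite_of_le hT.1
  obtain ⟨b, hb⟩ := exists_agree hTU β fun x hx =>
    map_mem_of_stronglyClosed hT ((autGroup_carrier hU).1 hβ) hx
  exact ⟨b, hb.mem hU hβ, hb⟩

/-- The automizer of `T` has `Aut_S(T)` as a Sylow subgroup. -/
theorem fullyNormalized_T (hT : F.StronglyClosed T) : F.IsFullyNormalized T :=
  ⟨hT.1, fun Q hQ => by
    obtain ⟨φ, hφ, rfl⟩ := hQ
    rw [(weaklyClosed_of_stronglyClosed hT).2 φ hφ]⟩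

variable {E : FusionSystem T}

/-- `T C_S(T)` is all of `S` when the two automizers of `T` agree. -/
theorem le_sup_centralizer (hS : IsPGroup p S) (hE : E.IsWeaklyNormalIn F p)
    (hAB : F.autGroup T ≤ E.autGroup T) : S ≤ T ⊔ centralizerIn S T := by
  obtain ⟨hEs, hF, hinv⟩ := hE
  have hT := hinv.2.1
  haveI := finite_of_le hT.1
  haveI : Finite (MulAut T) := finite_mulAut
  obtain ⟨-, R, hR⟩ :=
    (good_of_fullyNormalized p (isPGroup_of_le hS hT.1) hEs isFullyNormalized_S).1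
  intro s hs
  have hsn : s ∈ Subgroup.normalizer (T : Set Ω) := stronglyClosed_normal_in_S hT hs
  let c : MulAut T := conjAut S T ⟨s, hs, hsn⟩
  have hc : c ∈ autInducedBy S T := mem_autInducedBy.2 ⟨s, hs, fun _ => rfl⟩
  have hcE : c ∈ E.autGroup T := hAB (autInducedBy_le_autGroup hT.1 hc)
  have hmem : (⟨c, hcE⟩ : E.autGroup T) ∈ (autInducedBy T T).subgroupOf (E.autGroup T) := by
    obtain ⟨k, hk⟩ := isPGroup_autInducedBy hS T ⟨c, hc⟩
    haveI hn := inn_subgroupOf_normal (F := E) T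
    rw [inn_eq_autInducedBy] at hn
    rw [← hR] at hn ⊢
    rw [← QuotientGroup.eq_one_iff (N := (R : Subgroup (E.autGroup T))), ← orderOf_eq_one_iff]
    refine Nat.eq_one_of_dvd_coprimes (Nat.Coprime.pow_left k
      ((Fact.out : p.Prime).coprime_iff_not_dvd.2 R.not_dvd_index)) ?_ (orderOf_dvd_natCard _)
    refine orderOf_dvd_of_pow_eq_one ?_
    rw [← QuotientGroup.mk'_apply, ← map_pow, show (⟨c, hcE⟩ : E.autGroup T) ^ p ^ k = 1 from
      Subtype.ext (congrArg Subtype.val hk :), map_one]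
  obtain ⟨t, ht, hte⟩ := mem_autInducedBy.1 hmem
  have hz : t⁻¹ * s ∈ centralizerIn S T := by
    refine mem_centralizerIn.2 ⟨S.mul_mem (S.inv_mem (hT.1 ht)) hs, fun x hx => ?_⟩
    have h1 : s * x * s⁻¹ = t * x * t⁻¹ := hte ⟨x, hx⟩
    calc x * (t⁻¹ * s) = t⁻¹ * (t * x * t⁻¹) * s := by group
      _ = t⁻¹ * (s * x * s⁻¹) * s := by rw [h1]
      _ = t⁻¹ * s * x := by group
  rw [show s = t * (t⁻¹ * s) by group]
  exact Subgroup.mul_mem_sup ht hz

/-- Automorphisms fixing `T` act trivially on `C_S(T)` modulo `T`. -/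
def FixTrivial (F : FusionSystem S) (T : Subgroup Ω) : Prop :=
  ∀ U : Subgroup Ω, T ≤ U → U ≤ S → ∀ γ : MulAut U, γ ∈ F.autGroup U →
    (∀ x : U, (x : Ω) ∈ T → γ x = x) →
      ∀ x : U, (x : Ω) ∈ centralizerIn S T → (x : Ω)⁻¹ * ((γ x : U) : Ω) ∈ T

theorem fixTrivial_of_focal (hTS : T ≤ S)
    (hfoc : (centSystem F T hTS).focalSubgroup ≤ T) : FixTrivial F T := by
  intro U hTU hU γ hγ hfix x hx
  set P := U ⊓ centralizerIn S T with hPd
  let φ : P →* Ω := (U.subtype.comp γ.toMonoidHom).comp (Subgroup.inclusion (inf_le_left : P ≤ U))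
  have hAg : Agree hTU γ (1 : MulAut T) := fun t => congrArg Subtype.val (hfix _ t.2)
  have hγU := (autGroup_carrier hU).1 hγ
  have hφ : φ ∈ (centSystem F T hTS).Hom P := by
    have hle : P ⊔ T ≤ U := sup_le inf_le_left hTU
    refine ⟨restrict_mem hγU inf_le_left, inf_le_right, fun y => ?_, _,
      restrict_mem hγU hle, fun y => rfl, fun t => hAg t⟩
    exact map_cent hAg hU (x := Subgroup.inclusion inf_le_left y) y.2.2
  exact hfoc (Subgroup.subset_closure ⟨P, φ, ⟨x, x.2, hx⟩, hφ, rfl⟩)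

/-- The base of the reduction: the hyperfocal subgroup lies in `T`. -/
theorem hyperfocal_le (hS : IsPGroup p S) (hE : E.IsNormalIn F p) (hfix : FixTrivial F T)
    (hAB : F.autGroup T ≤ E.autGroup T) : F.hyperfocalSubgroup p ≤ T := by
  obtain ⟨hw, hext⟩ := id hE
  obtain ⟨hEs, hF, hinv⟩ := id hw
  have hT := hinv.2.1
  have hTS := hT.1
  have hSe := le_sup_centralizer hS hw hAB
  refine (Subgroup.closure_le _).2 ?_
  rintro _ ⟨P, ⟨α, hα⟩, x, hP, -, rfl⟩
  have hlift := exists_aut_lift hS hF hT hP hα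
  set U := P ⊔ T
  obtain ⟨β, hβ, hβx⟩ := hlift
  have hU : U ≤ S := sup_le hP hTS
  haveI := finite_of_le hU
  obtain ⟨a, ha, haβ⟩ := exists_restrict_T hT (le_sup_right : T ≤ U) hU hβ
  have hexta := hext a (hAB ha)
  set V := T ⊔ centralizerIn S T
  obtain ⟨b, hb, hbe, hbc⟩ := hexta
  have hV : V ≤ S := sup_le hTS (centralizerIn_le_S T)
  have hUV : U ≤ V := hU.trans hSe
  haveI := finite_of_le hV
  have hVn : V ≤ Subgroup.normalizer (T : Set Ω) :=
    hV.trans (stronglyClosed_normal_in_S hT)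
  have hbm : b ∈ modStab T V := by
    rintro ⟨v, hv⟩
    obtain ⟨t, ht, c, hc, rfl⟩ := exists_mul_sup hv
    let t' : V := Subgroup.inclusion le_sup_left (⟨t, ht⟩ : T)
    let c' : V := ⟨c, Subgroup.mem_sup_right hc⟩
    show (t * c)⁻¹ * ((b (t' * c') : V) : Ω) ∈ T
    rw [map_mul, Subgroup.coe_mul, hbe]
    have e : (t * c)⁻¹ * ((a ⟨t, ht⟩ : T) * ((b c' : V) : Ω)) =
        (c⁻¹ * (t⁻¹ * (a ⟨t, ht⟩ : T)) * c) * (c⁻¹ * ((b c' : V) : Ω)) := by group
    rw [e]
    exact T.mul_mem ((Subgroup.mem_normalizer_iff''.1 (hVn (Subgroup.mem_sup_right hc)) _).1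
      (T.mul_mem (T.inv_mem ht) (a ⟨t, ht⟩).2)) (hbc c' hc).1
  obtain ⟨bU, hbU⟩ := exists_agree hUV b fun y hy => by
    have h1 : (y : Ω) * ((y : Ω)⁻¹ * ((b y : V) : Ω)) ∈ U :=
      U.mul_mem hy ((le_sup_right : T ≤ U) (hbm y))
    rwa [mul_inv_cancel_left] at h1
  have hbUF : bU ∈ F.autGroup U := hbU.mem hV hb
  have haU : Agree (le_sup_right : T ≤ U) bU a := fun t =>
    (hbU (Subgroup.inclusion le_sup_right t)).symm.trans (hbe t)
  have hγ : Agree (le_sup_right : T ≤ U) (bU⁻¹ * β) (1 : MulAut T) := by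
    simpa using haU.inv.mul haβ
  have hbUm : bU ∈ modStab T U := fun v => by
    have h1 := hbm (Subgroup.inclusion hUV v)
    rwa [hbU] at h1
  have hγm : bU⁻¹ * β ∈ modStab T U := by
    intro v
    obtain ⟨t, ht, c, hc, e⟩ := exists_mul_sup (hUV v.2)
    have hcU : c ∈ U := by
      rw [show c = t⁻¹ * (v : Ω) by rw [e]; group]
      exact U.mul_mem (U.inv_mem ((le_sup_right : T ≤ U) ht)) v.2
    let t' : U := Subgroup.inclusion le_sup_right (⟨t, ht⟩ : T)
    have hv : v = t' * ⟨c, hcU⟩ := Subtype.ext e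
    have hfixT : ∀ y : U, (y : Ω) ∈ T → (bU⁻¹ * β) y = y := fun y hy =>
      hγ.apply ⟨y, hy⟩
    rw [hv, map_mul, hfixT t' ht]
    have h2 := hfix U le_sup_right hU _ (mul_mem (inv_mem hbUF) hβ) hfixT ⟨c, hcU⟩ hc
    show (t * c)⁻¹ * (t * _) ∈ T
    rw [mul_inv_rev, mul_assoc, inv_mul_cancel_left]
    exact h2
  have hβm : β ∈ modStab T U := by simpa using mul_mem hbUm hγm
  have h3 := hβm (Subgroup.inclusion le_sup_left x)
  have h4 := T.mul_mem h3 (T.inv_mem (hβx x))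
  simpa [mul_assoc] using h4

/-- An automorphism of `T C_S(T)` of order prime to `p` extending one of a normal subsystem. -/
theorem exists_coprime_extension (hE : E.IsNormalIn F p) {α : MulAut T}
    (hα : α ∈ E.autGroup T) (hco : (orderOf α).Coprime p) :
    ∃ β ∈ F.autGroup (T ⊔ centralizerIn S T), (orderOf β).Coprime p ∧
      Agree le_sup_left β α ∧ β ∈ modStab T (T ⊔ centralizerIn S T) := by
  obtain ⟨⟨-, -, hinv⟩, hext⟩ := hE
  have hTS := hinv.2.1.1
  have hexta := hext α hα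
  set V := T ⊔ centralizerIn S T
  obtain ⟨b, hb, hbe, hbc⟩ := hexta
  have hV : V ≤ S := sup_le hTS (centralizerIn_le_S T)
  haveI := finite_of_le hV
  haveI : Finite (MulAut V) := finite_mulAut
  have hbm : b ∈ modStab T V := by
    rintro ⟨v, hv⟩
    obtain ⟨t, ht, c, hc, rfl⟩ := exists_mul_sup hv
    let t' : V := Subgroup.inclusion le_sup_left (⟨t, ht⟩ : T)
    let c' : V := ⟨c, Subgroup.mem_sup_right hc⟩
    show (t * c)⁻¹ * ((b (t' * c') : V) : Ω) ∈ T
    rw [map_mul, Subgroup.coe_mul, hbe]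
    have e : (t * c)⁻¹ * ((α ⟨t, ht⟩ : T) * ((b c' : V) : Ω)) =
        (c⁻¹ * (t⁻¹ * (α ⟨t, ht⟩ : T)) * c) * (c⁻¹ * ((b c' : V) : Ω)) := by group
    rw [e]
    exact T.mul_mem ((Subgroup.mem_normalizer_iff''.1
      (centralizer_le_normalizer' T hc.2) _).1
      (T.mul_mem (T.inv_mem ht) (α ⟨t, ht⟩).2)) (hbc c' hc).1
  obtain ⟨e, he, he'⟩ := ConstrainedNormal.exists_pow_coprime p b
  have hAg : Agree le_sup_left b α := hbe
  have h1 : α ^ e = α :=
    he' α hco (orderOf_dvd_of_pow_eq_one ((hAg.pow _).eq_one (pow_orderOf_eq_one b)))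
  exact ⟨b ^ e, pow_mem hb e, he, by simpa [h1] using hAg.pow e, pow_mem hbm e⟩

/-- Normality in an intermediate system containing the extensions. -/
theorem normal_of_between {W : Subgroup Ω} (hS : IsPGroup p S) {G : FusionSystem W}
    (hG : G.IsSaturated p) (hGF : G.IsSubsystemOf F) (hEG : E.IsSubsystemOf G)
    (hE : E.IsNormalIn F p) (hC : centralizerIn S T ≤ W)
    (hco : ∀ α ∈ E.autGroup T, ∀ β ∈ F.autGroup (T ⊔ centralizerIn S T),
      (orderOf β).Coprime p → Agree le_sup_left β α →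
        β ∈ G.autGroup (T ⊔ centralizerIn S T)) : E.IsNormalIn G p := by
  have hWS : W ≤ S := le_of_subsystem hGF
  have hTW : T ≤ W := le_of_subsystem hEG
  haveI := finite_of_le hWS
  obtain ⟨hEs, -, hinv⟩ := hE.1
  have hT := hinv.2.1
  haveI := finite_of_le hT.1
  haveI : Finite (MulAut T) := finite_mulAut
  refine ⟨weaklyNormal_of_between (isPGroup_of_le hS hWS) hG hGF hEG hE.1, ?_⟩
  have hCeq : centralizerIn W T = centralizerIn S T :=
    le_antisymm (fun c hc => ⟨hWS hc.1, hc.2⟩) fun c hc => ⟨hC hc, hc.2⟩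
  suffices key : ∀ C : Subgroup Ω, C = centralizerIn S T → ∀ α ∈ E.autGroup T,
      ∃ β ∈ G.autGroup (T ⊔ C),
        (∀ x : T, ((β (Subgroup.inclusion le_sup_left x) : ↥(T ⊔ C)) : Ω) = ((α x : T) : Ω)) ∧
        ∀ c : ↥(T ⊔ C), (c : Ω) ∈ C →
          (c : Ω)⁻¹ * ((β c : ↥(T ⊔ C)) : Ω) ∈ T ⊓ Subgroup.centralizer (T : Set Ω) from
    key _ hCeq
  rintro _ rfl
  set V := T ⊔ centralizerIn S T
  have hVW : V ≤ W := sup_le hTW hC
  let K : Subgroup (MulAut T) :=
    { carrier := {α | ∃ β ∈ G.autGroup V, Agree le_sup_left β α ∧ β ∈ modStab T V}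
      one_mem' := ⟨1, one_mem _, Agree.one, one_mem _⟩
      mul_mem' := by
        rintro a a' ⟨b, hb, hba, hbm⟩ ⟨b', hb', hb'a, hb'm⟩
        exact ⟨b * b', mul_mem hb hb', hba.mul hb'a, mul_mem hbm hb'm⟩
      inv_mem' := by
        rintro a ⟨b, hb, hba, hbm⟩
        exact ⟨b⁻¹, inv_mem hb, hba.inv, inv_mem hbm⟩ }
  have hcop : ∀ α ∈ E.autGroup T, (orderOf α).Coprime p → α ∈ K := by
    intro α hα hα'
    obtain ⟨β, hβ, hβo, hβa, hβm⟩ := exists_coprime_extension hE hα hα'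
    exact ⟨β, hco α hα β hβ hβo hβa, hβa, hβm⟩
  have hinn : Inn T ≤ K := by
    intro α hα
    rw [inn_eq_autInducedBy] at hα
    obtain ⟨t, ht, hte⟩ := mem_autInducedBy.1 hα
    have htn : t ∈ W ⊓ Subgroup.normalizer (V : Set Ω) :=
      ⟨hTW ht, Subgroup.le_normalizer (Subgroup.mem_sup_left ht)⟩
    refine ⟨conjAut W V ⟨t, htn⟩, autInducedBy_le_autGroup hVW
      (mem_autInducedBy.2 ⟨t, hTW ht, fun _ => rfl⟩), fun x => (hte x).symm, ?_⟩
    rintro ⟨v, hv⟩
    show v⁻¹ * (t * v * t⁻¹) ∈ T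
    have h1 : v⁻¹ * t * v ∈ T :=
      (Subgroup.mem_normalizer_iff''.1 (stronglyClosed_normal_in_S hT ((sup_le hT.1
        (centralizerIn_le_S T)) hv)) t).1 ht
    simpa [mul_assoc] using T.mul_mem h1 (T.inv_mem ht)
  have hall : E.autGroup T ≤ K := by
    intro α hα
    let N := (Inn T).subgroupOf (E.autGroup T)
    haveI : N.Normal := inn_subgroupOf_normal T
    have h1 : α ^ N.index ∈ K :=
      hinn (Subgroup.mem_subgroupOf.1 (N.pow_index_mem (⟨α, hα⟩ : E.autGroup T)))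
    obtain ⟨-, R, hR⟩ :=
      (good_of_fullyNormalized p (isPGroup_of_le hS hT.1) hEs isFullyNormalized_S).1
    have hidx : ¬ p ∣ N.index := by
      have := R.not_dvd_index
      rwa [hR, ← inn_eq_autInducedBy] at this
    obtain ⟨m, hm⟩ := WeakEmb.exists_pow_coprime p α
    have h2 : α ^ p ^ m ∈ K := hcop _ (pow_mem hα _) hm
    obtain ⟨u, w, huw⟩ : ∃ u w : ℤ,
        (Nat.gcd N.index (p ^ m) : ℤ) = N.index * u + (p ^ m : ℕ) * w :=
      ⟨_, _, Nat.gcd_eq_gcd_ab _ _⟩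
    rw [Nat.Coprime.gcd_eq_one
      (Nat.Coprime.pow_right m ((Fact.out : p.Prime).coprime_iff_not_dvd.2 hidx).symm)] at huw
    rw [← zpow_one α, show (1 : ℤ) = _ from huw, zpow_add, zpow_mul, zpow_mul, zpow_natCast,
      zpow_natCast]
    exact mul_mem (Subgroup.zpow_mem _ h1 u) (Subgroup.zpow_mem _ h2 w)
  intro α hα
  obtain ⟨β, hβ, hβa, hβm⟩ := hall hα
  refine ⟨β, hβ, hβa, fun c hc => ⟨hβm c, ?_⟩⟩
  exact Subgroup.mul_mem _ (Subgroup.inv_mem _ hc.2)
    (map_cent hβa (hVW.trans hWS) (x := c) hc).2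

end CfsgLib.SolvIndex
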