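import Cfsg.Prelude.Def_Local
import Mathlib

/-!
A hereditary form of `p`-solubility of a quotient of a subgroup of a given group.
-/

set_option autoImplicit false

open Cfsg

namespace CfsgLib.SolvIndex

variable {M : Type*} [Group M]

/-- Between `B` and any strictly larger subgroup of `A` there is a normal subgroup with proper
quotient of order a power of `p` or prime to `p`. -/
def Layered (p : ℕ) (B A : Subgroup M) : Prop :=
  ∀ K ≤ A, B < K → ∃ N : Subgroup M, B ≤ N ∧ N < K ∧ (N.subgroupOf K).Normal ∧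
    (∀ a ∈ A, (∀ k ∈ K, a * k * a⁻¹ ∈ K) → ∀ n ∈ N, a * n * a⁻¹ ∈ N) ∧
    ((∃ m, N.relIndex K = p ^ m) ∨ (N.relIndex K).Coprime p)

theorem Layered.mono {p : ℕ} {B A A' : Subgroup M} (h : Layered p B A) (hA : A' ≤ A) :
    Layered p B A' := fun K hK hB => by
  obtain ⟨N, h₁, h₂, h₃, h₄, h₅⟩ := h K (hK.trans hA) hB
  exact ⟨N, h₁, h₂, h₃, fun a ha => h₄ a (hA ha), h₅⟩

theorem relIndex_dvd {G : Type*} [Group G] [Finite G] {L H H' : Subgroup G} [H.Normal]
    (hL : L ≤ H') : H.relIndex L ∣ H.relIndex H' := by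
  have h : ∀ L : Subgroup G, H.relIndex L = Nat.card (L.map (QuotientGroup.mk' H)) := fun L => by
    rw [← Subgroup.relIndex_ker, QuotientGroup.ker_mk']
  rw [h, h]
  exact Subgroup.card_dvd_of_le (Subgroup.map_mono hL)

theorem layered_of_pSolvable (p : ℕ) [Fact p.Prime] {B A : Subgroup M} [Finite A] (hBA : B ≤ A)
    [hn : (B.subgroupOf A).Normal] (h : IsPSolvable p (↥A ⧸ B.subgroupOf A)) : Layered p B A := by
  classical
  obtain ⟨n, H, h0, hlast, hmono, hnorm, hidx⟩ := h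
  intro K hKA hBK
  let π := QuotientGroup.mk' (B.subgroupOf A)
  let L : Subgroup (↥A ⧸ B.subgroupOf A) := (K.subgroupOf A).map π
  have hL0 : ¬ L ≤ H 0 := fun hle => hBK.not_ge fun x hx => by
    have h1 : π ⟨x, hKA hx⟩ ∈ L := ⟨⟨x, hKA hx⟩, hx, rfl⟩
    have h2 := hle h1
    rw [h0, Subgroup.mem_bot] at h2
    exact (QuotientGroup.eq_one_iff (N := B.subgroupOf A) (⟨x, hKA hx⟩ : A)).1 h2
  obtain ⟨i, hi, hi'⟩ : ∃ i : Fin n, ¬ L ≤ H i.castSucc ∧ L ≤ H i.succ := by
    by_contra hno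
    push Not at hno
    have hall : ∀ j : Fin (n + 1), ¬ L ≤ H j := fun j => by
      induction j using Fin.induction with
      | zero => exact hL0
      | succ i ih => exact hno i ih
    exact hall (Fin.last n) (hlast ▸ le_top)
  haveI := hnorm i.castSucc
  let M₁ : Subgroup A := (H i.castSucc).comap π
  let N : Subgroup M := M₁.map A.subtype ⊓ K
  have hN : N.subgroupOf K = M₁.comap (Subgroup.inclusion hKA) := by
    ext x
    simp only [Subgroup.mem_subgroupOf, N, Subgroup.mem_inf, Subgroup.mem_comap]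
    constructor
    · rintro ⟨⟨y, hy, hye⟩, -⟩
      rwa [show Subgroup.inclusion hKA x = y from Subtype.ext hye.symm]
    · exact fun hx => ⟨⟨Subgroup.inclusion hKA x, hx, rfl⟩, x.2⟩
  have hrange : (⊤ : Subgroup K).map (Subgroup.inclusion hKA) = K.subgroupOf A := by
    ext x
    constructor
    · rintro ⟨y, -, rfl⟩; exact y.2
    · intro hx; exact ⟨⟨x, hx⟩, trivial, rfl⟩
  have hrel : N.relIndex K = (H i.castSucc).relIndex L := by
    rw [Subgroup.relIndex, hN, ← Subgroup.relIndex_top_right, Subgroup.relIndex_comap, hrange,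
      Subgroup.relIndex_comap]
  refine ⟨N, le_inf (fun x hx => ?_) hBK.le, lt_of_le_of_ne inf_le_right fun he => hi ?_,
    hN ▸ (inferInstanceAs ((M₁.comap (Subgroup.inclusion hKA)).Normal)), ?_, ?_⟩
  · refine ⟨⟨x, hBA hx⟩, ?_, rfl⟩
    show π ⟨x, hBA hx⟩ ∈ H i.castSucc
    rw [show π ⟨x, hBA hx⟩ = 1 from (QuotientGroup.eq_one_iff (N := B.subgroupOf A) _).2 hx]
    exact one_mem _
  · rintro _ ⟨x, hx, rfl⟩
    obtain ⟨⟨y, hy, hye⟩, -⟩ := Subgroup.mem_inf.1 (he.ge hx)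
    rwa [show x = y from Subtype.ext hye.symm]
  · rintro a ha hK _ ⟨⟨y, hy, rfl⟩, hyK⟩
    exact ⟨⟨⟨a, ha⟩ * y * ⟨a, ha⟩⁻¹,
      (inferInstance : M₁.Normal).conj_mem y hy _, rfl⟩, hK _ hyK⟩
  · rw [hrel]
    have hd := relIndex_dvd (H := H i.castSucc) hi'
    rcases hidx i with ⟨m, hm⟩ | hc
    · rw [hm] at hd
      obtain ⟨k, -, hk⟩ := (Nat.dvd_prime_pow Fact.out).1 hd
      exact Or.inl ⟨k, hk⟩
    · exact Or.inr (Nat.Coprime.coprime_dvd_left hd hc)

end CfsgLib.SolvIndex
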