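import Cfsg.Agent.Fusion.SolvIndex.Lift
import Cfsg.Agent.Fusion.SolvIndex.Series
import Cfsg.Agent.Fusion.PrimeCharacter

/-!
A normal subsystem of `p`-soluble index, with trivial action on its centralizer, has the residual
limit of the system.
-/

set_option autoImplicit false
set_option linter.style.haveILetI false
set_option linter.unusedSectionVars false

open Cfsg Cfsg.FusionSystem CfsgLib.Fusion CfsgLib.FocCent CfsgLib.NormExt
open scoped commutatorElement

namespace CfsgLib.SolvIndex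

universe u

variable {Ω : Type u} [Group Ω] {S T : Subgroup Ω} [Finite S] {F : FusionSystem S}
  {E : FusionSystem T} {p : ℕ} [Fact p.Prime]

/-- An abelian character of `p`-power order gives a normal subsystem of `p`-power index. -/
theorem exists_p_step (hS : IsPGroup p S) (hE : E.IsNormalIn F p) {Δ : Type*} [CommGroup Δ]
    [Finite Δ] (hΔ : IsPGroup p Δ) [Nontrivial Δ] (χ : ↥(F.autGroup T) →* Δ)
    (hχ : Function.Surjective χ) (hker : (E.autGroup T).subgroupOf (F.autGroup T) ≤ χ.ker) :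
    ∃ (S₁ : Subgroup Ω) (F₁ : FusionSystem S₁), F₁.IsNormalIn F p ∧
      F₁.HasPPowerIndexIn F p ∧ E.IsNormalIn F₁ p ∧ homCount F₁ < homCount F ∧
      S ≤ Subgroup.normalizer (S₁ : Set Ω) ∧ T ⊔ centralizerIn S T ≤ S₁ ∧
      ∀ x : Ω, x ∈ S₁ ↔ x ∈ S ∧ ∃ a : ↥(F.autGroup T), χ a = 1 ∧
        ∀ t : T, ((((a : MulAut T) t : T)) : Ω) = x * t * x⁻¹ := by
  obtain ⟨⟨hEs, hF, hinv⟩, -⟩ := id hE
  have hT := hinv.2.1
  have hTS := hT.1
  haveI := finite_of_le hTS
  haveI : Finite (MulAut T) := finite_mulAut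
  have hTn := stronglyClosed_normal_in_S hT
  let ι : ↥S →* ↥(S ⊓ Subgroup.normalizer (T : Set Ω)) :=
    Subgroup.inclusion (fun s hs => ⟨hs, hTn hs⟩)
  let cT : ↥S →* ↥(F.autGroup T) := ((conjAut S T).comp ι).codRestrict _ fun s =>
    autInducedBy_le_autGroup hTS (mem_autInducedBy.2 ⟨s, s.2, fun _ => rfl⟩)
  have hcT : ∀ (s : S) (t : T), ((((cT s : F.autGroup T) : MulAut T) t : T) : Ω) =
      (s : Ω) * t * (s : Ω)⁻¹ := fun s t => rfl
  let f : ↥S →* Δ := χ.comp cT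
  have hfT : ∀ s : S, (s : Ω) ∈ T → f s = 1 := fun s hs => hker <| by
    refine Subgroup.mem_subgroupOf.2 ((autGroup_carrier le_rfl).2
      (restrict_mem_of_eq (E.conj_mem le_rfl hs) le_rfl fun t => ?_))
    exact hcT s t
  have hsurj : Function.Surjective f := by
    obtain ⟨-, R, hR⟩ := (good_of_fullyNormalized p hS hF (fullyNormalized_T hT)).1
    have htop : ((R.mapSurjective hχ : Sylow p Δ) : Subgroup Δ) = ⊤ :=
      ((R.mapSurjective hχ).is_maximal' (hΔ.to_subgroup ⊤) le_top).symm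
    rw [Sylow.coe_mapSurjective, hR] at htop
    intro d
    obtain ⟨a, ha, rfl⟩ := htop.ge (Subgroup.mem_top d)
    obtain ⟨g, hg, hga⟩ := mem_autInducedBy.1 (Subgroup.mem_subgroupOf.1 ha)
    exact ⟨⟨g, hg⟩, congrArg χ (Subtype.ext (MulEquiv.ext fun t => Subtype.ext (hga t).symm))⟩
  set S₁ := f.ker.map S.subtype
  have hS₁ : S₁ ≤ S := Subgroup.map_subtype_le _
  have hmem : ∀ s : S, f s = 1 → (s : Ω) ∈ S₁ := fun s hs => ⟨s, hs, rfl⟩
  have hTS₁ : T ≤ S₁ := fun t ht => hmem ⟨t, hTS ht⟩ (hfT _ ht)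
  have hCS₁ : centralizerIn S T ≤ S₁ := fun c hc => hmem ⟨c, hc.1⟩ <| by
    show χ _ = 1
    rw [show cT ⟨c, hc.1⟩ = 1 from Subtype.ext (MulEquiv.ext fun t => Subtype.ext
      ((hcT _ t).trans (by rw [← hc.2 (t : Ω) t.2, mul_inv_cancel_right]; rfl))), map_one]
  have hne : S₁ ≠ S := fun he => by
    obtain ⟨d, hd⟩ := exists_ne (1 : Δ)
    obtain ⟨s, rfl⟩ := hsurj d
    obtain ⟨s', hs', he'⟩ := he.ge s.2
    exact hd (Subtype.ext he' ▸ hs')
  have hhyp : F.hyperfocalSubgroup p ≤ S₁ := by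
    refine (Subgroup.closure_le _).2 ?_
    rintro _ ⟨P, ⟨α, hα⟩, x, hP, -, rfl⟩
    obtain ⟨β, hβ, hβx⟩ := exists_aut_lift hS hF hT hP hα
    have hU : P ⊔ T ≤ S := sup_le hP hTS
    obtain ⟨b, hb, hbβ⟩ := exists_restrict_T hT (le_sup_right : T ≤ P ⊔ T) hU hβ
    set x' := Subgroup.inclusion (le_sup_left : P ≤ P ⊔ T) x
    have h1 : cT ⟨_, hU (β x').2⟩ = ⟨b, hb⟩ * cT ⟨_, hU x'.2⟩ * ⟨b, hb⟩⁻¹ := by
      refine Subtype.ext (MulEquiv.ext fun t => Subtype.ext ?_)
      show ((β x' : ↥(P ⊔ T)) : Ω) * t * ((β x' : ↥(P ⊔ T)) : Ω)⁻¹ =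
        ((b ((cT ⟨_, hU x'.2⟩ : MulAut T) (b⁻¹ t)) : T) : Ω)
      rw [← hbβ]
      have e : Subgroup.inclusion (le_sup_right : T ≤ P ⊔ T)
          ((cT ⟨_, hU x'.2⟩ : MulAut T) (b⁻¹ t)) =
          x' * Subgroup.inclusion le_sup_right (b⁻¹ t) * x'⁻¹ := Subtype.ext rfl
      rw [e, map_mul, map_mul, map_inv, hbβ.apply, MulAut.apply_inv_self]
      rfl
    have h2 : f ⟨_, hU (β x').2⟩ = f ⟨_, hU x'.2⟩ := by
      show χ _ = χ _
      rw [h1, map_mul, map_mul, map_inv, mul_comm (χ _), mul_assoc, mul_inv_cancel, mul_one]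
    have h3 : f ((⟨(α x : P), hP (α x).2⟩ : S)⁻¹ * ⟨_, hU (β x').2⟩) = 1 := hfT _ (hβx x)
    rw [map_mul, map_inv, inv_mul_eq_one] at h3
    refine hmem ((⟨x, hP x.2⟩ : S)⁻¹ * ⟨(α x : P), hP (α x).2⟩) ?_
    rw [map_mul, map_inv, h3, h2]
    exact inv_mul_cancel _
  have hS₁n : S ≤ Subgroup.normalizer (S₁ : Set Ω) := fun s hs => by
    refine mem_normalizer_of_conj_mem hS₁ ?_
    rintro _ ⟨k, hk, rfl⟩
    exact ⟨⟨s, hs⟩ * k * ⟨s, hs⟩⁻¹, (inferInstance : f.ker.Normal).conj_mem k hk _, rfl⟩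
  obtain ⟨F₁, hF₁, hi⟩ := exists_pPowerIndex_subsystem p hS F hF S₁ hS₁ hhyp
  have hn := pPowerIndex_normal p hS hF hS₁ hS₁n hhyp hF₁ hi
  have hEF₁ : E.IsSubsystemOf F₁ := fun P =>
    CfsgLib.PPowerIndex.hom_subset_of_pPowerIndex p (isPGroup_of_le hS hTS) hTS₁ hinv.1 hEs hi P
  refine ⟨S₁, F₁, hn, hi, normal_of_between hS hF₁ hi.1 hEF₁ hE hCS₁ fun α _ β hβ hco _ => ?_,
    homCount_lt hi.1 fun h => hne h.1, hS₁n, sup_le hTS₁ hCS₁, fun x => ⟨?_, ?_⟩⟩
  rotate_left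
  · rintro ⟨k, hk, rfl⟩
    exact ⟨k.2, cT k, hk, fun t => hcT k t⟩
  · rintro ⟨hx, a, ha, hat⟩
    refine hmem ⟨x, hx⟩ ?_
    show χ _ = 1
    rwa [show cT ⟨x, hx⟩ = a from Subtype.ext (MulEquiv.ext fun t => Subtype.ext
      ((hcT _ t).trans (hat t).symm))]
  refine hi.2.2 _ (sup_le hTS₁ hCS₁) ⟨⟨β, hβ⟩, Subgroup.subset_closure ?_, rfl⟩
  show Nat.Coprime (orderOf (⟨β, hβ⟩ : ↥(F.autGroup (T ⊔ centralizerIn S T)))) p
  rwa [← Subgroup.orderOf_coe]

/-- A character of order prime to `p` gives a normal subsystem of index prime to `p`. -/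
theorem exists_p'_step (hS : IsPGroup p S) (hE : E.IsNormalIn F p) {Δ : Type*} [Group Δ]
    [Finite Δ] [Nontrivial Δ] (χ : ↥(F.autGroup T) →* Δ) (hχ : Function.Surjective χ)
    (hΔ : (Nat.card Δ).Coprime p) (hker : (E.autGroup T).subgroupOf (F.autGroup T) ≤ χ.ker) :
    ∃ F₀ : FusionSystem S, F₀.IsSaturated p ∧ F₀.HasPrimeToPIndexIn F p ∧
      E.IsNormalIn F₀ p ∧ homCount F₀ < homCount F ∧
      ∀ U : Subgroup Ω, T ≤ U → F.IsCentric U → ∀ α ∈ F.autGroup U, ∀ a : ↥(F.autGroup T),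
        (∀ (x : U) (hx : (x : Ω) ∈ T),
          ((α x : U) : Ω) = (((a : MulAut T) ⟨x, hx⟩ : T) : Ω)) →
          (α ∈ F₀.autGroup U ↔ χ a = 1) := by
  obtain ⟨⟨hEs, hF, hinv⟩, hext⟩ := id hE
  have hT := hinv.2.1
  have hTS := hT.1
  haveI := finite_of_le hTS
  have hval := isVal_charVal p hS hEs hinv hΔ hker
  obtain ⟨v, hv, hvv⟩ := exists_centric_extension p hS hF hval fun P _ hc hr =>
    ⟨hc.1, selfCentralizing_of_radical p hS hF hinv hc hr⟩
  have hU : F.IsCentric (T ⊔ centralizerIn S T) := isCentric_sup_centralizer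
    ⟨hTS, fun Q hQ => by
      obtain ⟨φ, hφ, rfl⟩ := hQ
      rw [(weaklyClosed_of_stronglyClosed hT).2 φ hφ]⟩
  have hc : SelfCentralizingIn F T ((T ⊔ centralizerIn S T) ⊓ T) := by
    rw [inf_eq_right.2 le_sup_left]; exact selfCentralizingIn_self hT
  have hvU : ∀ (f : ↥(T ⊔ centralizerIn S T) →* Ω) (β : F.autGroup T),
      (∀ (x : Ω) (h1 : x ∈ T ⊔ centralizerIn S T) (h2 : x ∈ T),
        f ⟨x, h1⟩ = (((β : MulAut T) ⟨x, h2⟩ : T) : Ω)) → v _ f = χ β := by
    intro f β h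
    rw [hvv _ f ⟨hU.1, hc⟩]
    exact charVal_eq p hS hEs hinv hΔ hker hc (charRel_of_restrict β h)
  have hmem : ∀ α ∈ E.autGroup T, ∀ β ∈ F.autGroup (T ⊔ centralizerIn S T),
      Agree le_sup_left β α → β ∈ (valKernel hv).autGroup (T ⊔ centralizerIn S T) := by
    intro α hα β hβ hβα
    refine (autGroup_carrier hU.1).2 ((mem_valKernel_iff hv hU).2
      ⟨(autGroup_carrier hU.1).1 hβ, ?_⟩)
    rw [hvU _ ⟨α, autGroup_mono' hinv.1 T hα⟩ fun x h1 h2 => hβα ⟨x, h2⟩]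
    exact hker (Subgroup.mem_subgroupOf.2 hα)
  have hsat := valKernel_saturated p hS hF hv
  obtain ⟨hidx, -, -⟩ := valKernel_primeToP p hS hF hv
  have hEk : E.IsSubsystemOf (valKernel hv) := by
    intro P φ hφ
    have hsub : (interSystem E (valKernel hv) hTS).IsSubsystemOf E := fun Q ψ h => h.1
    obtain ⟨-, hfr, -⟩ := primeToP_of_centric p (isPGroup_of_le hS hTS) hEs hsub fun Q hQ => by
      rw [MonoidHom.map_closure, Subgroup.closure_le]
      rintro _ ⟨a, ⟨k, hk⟩, rfl⟩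
      refine (autGroup_carrier hQ.1).2 ⟨(autGroup_carrier hQ.1).1 a.2, ?_⟩
      exact valRel_pElement p hF hv hS (hQ.1.trans hTS) (autGroup_mono' hinv.1 Q a.2)
        ⟨k, congrArg Subtype.val (orderOf_dvd_iff_pow_eq_one.1 hk.dvd)⟩
    obtain ⟨α, hα, φ₀, ⟨hφ₀E, hφ₀⟩, he⟩ := hfr P φ hφ
    obtain ⟨β, hβ, hβe, -⟩ := hext α hα
    have hb := (autGroup_carrier hU.1).1 (hmem α hα β hβ hβe)
    have ha : T.subtype.comp α.toMonoidHom ∈ (valKernel hv).Hom T :=
      restrict_mem_of_eq hb le_sup_left fun x => (hβe x).symm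
    exact comp_mem_of_eq hφ₀ ha (fun x => apply_mem_S hφ₀E x) fun x => he x _
  refine ⟨valKernel hv, hsat, hidx, normal_of_between hS hsat hidx.1 hEk hE (centralizerIn_le_S T)
    fun α hα β hβ _ h => hmem α hα β hβ h, homCount_lt hidx.1 fun heq => ?_, ?_⟩
  rotate_left
  · intro U hTU hUc α hα a h
    have hc' : SelfCentralizingIn F T (U ⊓ T) := by
      rw [inf_eq_right.2 hTU]; exact selfCentralizingIn_self hT
    have hvα : v _ (U.subtype.comp α.toMonoidHom) = χ a := by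
      rw [hvv _ _ ⟨hUc.1, hc'⟩]
      exact charVal_eq p hS hEs hinv hΔ hker hc' (charRel_of_restrict a fun x h1 h2 => h ⟨x, h1⟩ h2)
    rw [autGroup_carrier hUc.1, mem_valKernel_iff hv hUc, hvα]
    exact ⟨fun h' => h'.2, fun h' => ⟨(autGroup_carrier hUc.1).1 hα, h'⟩⟩
  obtain ⟨d, hd⟩ := exists_ne (1 : Δ)
  obtain ⟨β, rfl⟩ := hχ d
  have hβ := (autGroup_carrier hTS).1 β.2
  obtain ⟨f, hf, hfe⟩ := receptive_extend
    (good_of_fullyNormalized p hS hF (fullyNormalized_T hT)).2 hβ (range_subtype_comp _)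
    (N := T ⊔ centralizerIn S T)
    (sup_le (le_extender hβ) (centralizerIn_le_extender T _))
  have h1 : v _ f = χ β := hvU f β fun x h1 h2 => hfe x h2 h1
  have h2 : f ∈ (valKernel hv).Hom (T ⊔ centralizerIn S T) := (heq.2 _).symm ▸ hf
  exact hd (h1.symm.trans ((mem_valKernel_iff hv hU).1 h2).2)

/-- **Reduction along a normal subsystem of `p`-soluble index.** -/
theorem sameLimit_of_layered {U V : Subgroup Ω} (hS : IsPGroup p S) (hE : E.IsNormalIn F p)
    (hfix : FixTrivial F T) (hlay : Layered p (E.autGroup T) (F.autGroup T))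
    {A : FusionSystem U} (hA : A.IsResidualLimitOf F p) {B : FusionSystem V}
    (hB : B.IsResidualLimitOf E p) : SameMaps A B := by
  induction hn : homCount F using Nat.strong_induction_on generalizing S U with
  | _ n IH =>
  obtain ⟨⟨hEs, hF, hinv⟩, -⟩ := id hE
  have hT := hinv.2.1
  have hTS := hT.1
  haveI := finite_of_le hTS
  haveI : Finite (MulAut T) := finite_mulAut
  have hBA : E.autGroup T ≤ F.autGroup T := autGroup_mono' hinv.1 T
  rcases hBA.eq_or_lt with heq | hlt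
  · -- the base
    have hhyp := hyperfocal_le hS hE hfix heq.ge
    obtain ⟨G, hGs, hGi⟩ := exists_pPowerIndex_subsystem p hS F hF T hTS hhyp
    have hGn := pPowerIndex_normal p hS hF hTS (stronglyClosed_normal_in_S hT) hhyp hGs hGi
    have hEG : E.IsSubsystemOf G := fun P =>
      CfsgLib.PPowerIndex.hom_subset_of_pPowerIndex p (isPGroup_of_le hS hTS) le_rfl hinv.1 hEs hGi P
    obtain rfl : E = G := ext_hom fun P => by
      refine Set.Subset.antisymm (hEG P) fun φ hφ => ?_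
      have hPT := le_of_mem_hom hφ
      obtain ⟨α, hα, φ₀, hφ₀, he⟩ := hinv.2.2.2 P hPT φ (hGi.1 P hφ)
      exact comp_mem_of_eq hφ₀ ((autGroup_carrier le_rfl).1 (heq.ge hα))
        (fun x => apply_mem_S hφ₀ x) fun x => he x _
    exact residualLimit_eq_of_pPowerIndex p hS hF hE hGi hA hB
  · obtain ⟨N, hBN, hNA, hNn, -, hidx⟩ := hlay _ le_rfl hlt
    haveI := hNn
    let Q := ↥(F.autGroup T) ⧸ N.subgroupOf (F.autGroup T)
    have hQ : Nat.card Q = N.relIndex (F.autGroup T) := rfl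
    have hker : (E.autGroup T).subgroupOf (F.autGroup T) ≤ N.subgroupOf (F.autGroup T) :=
      Subgroup.comap_mono hBN
    haveI : Nontrivial Q := by
      rw [← Finite.one_lt_card_iff_nontrivial, hQ]
      refine Nat.lt_of_le_of_ne (Nat.pos_of_ne_zero fun h => ?_) fun h => hNA.not_ge ?_
      · rw [← hQ] at h
        exact (Nat.card_pos (α := Q)).ne' h
      · exact Subgroup.relIndex_eq_one.1 h.symm
    rcases hidx with ⟨m, hm⟩ | hco
    · -- a `p`-group
      have hQp : IsPGroup p Q := IsPGroup.of_card (n := m) (by rw [hQ, hm])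
      haveI : Group.IsNilpotent Q := hQp.isNilpotent
      have hc : commutator Q < ⊤ := Group.IsSolvable.commutator_lt_top_of_nontrivial Q
      let π : ↥(F.autGroup T) →* Abelianization Q :=
        Abelianization.of.comp (QuotientGroup.mk' _)
      haveI : Finite (Abelianization Q) := inferInstanceAs (Finite (Q ⧸ commutator Q))
      haveI : Nontrivial (Abelianization Q) :=
        QuotientGroup.nontrivial_iff.2 hc.ne
      have hker' : (E.autGroup T).subgroupOf (F.autGroup T) ≤ π.ker := fun x hx => by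
        show Abelianization.of (QuotientGroup.mk' _ x) = 1
        rw [show (QuotientGroup.mk' (N.subgroupOf (F.autGroup T)) x : Q) = 1 from
          (QuotientGroup.eq_one_iff _).2 (hker hx), map_one]
      obtain ⟨S₁, F₁, hn₁, hi₁, hE₁, hlt₁, -⟩ := exists_p_step hS hE
        (hQp.of_surjective Abelianization.of (QuotientGroup.mk'_surjective _)) π
        (show Function.Surjective π from
          (show Function.Surjective (Abelianization.of : Q →* Abelianization Q) from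
            QuotientGroup.mk'_surjective _).comp (QuotientGroup.mk'_surjective _)) hker'
      have hS₁ : S₁ ≤ S := le_of_subsystem hi₁.1
      haveI := finite_of_le hS₁
      obtain ⟨U', A', hA'⟩ := exists_limit (isPGroup_of_le hS hS₁) hn₁.1.1
      refine SameMaps.trans (residualLimit_eq_of_pPowerIndex p hS hF hn₁ hi₁ hA hA')
        (IH _ (hn ▸ hlt₁) (isPGroup_of_le hS hS₁) hE₁ ?_ (hlay.mono (autGroup_mono' hi₁.1 T))
          hA' rfl)
      intro W hTW hW γ hγ hfx x hx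
      exact hfix W hTW (hW.trans hS₁) γ (autGroup_mono' hi₁.1 W hγ) hfx x ⟨hS₁ hx.1, hx.2⟩
    · obtain ⟨F₀, hF₀, hi₀, hE₀, hlt₀, -⟩ := exists_p'_step hS hE
        (QuotientGroup.mk' (N.subgroupOf (F.autGroup T))) (QuotientGroup.mk'_surjective _)
        hco (by rwa [QuotientGroup.ker_mk'])
      obtain ⟨U', A', hA'⟩ := exists_limit hS hF₀
      refine SameMaps.trans (sameLimit_primeIndex hS hF hF₀ hi₀ hA hA')
        (IH _ (hn ▸ hlt₀) hS hE₀ ?_ (hlay.mono (autGroup_mono' hi₀.1 T)) hA' rfl)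
      intro W hTW hW γ hγ hfx x hx
      exact hfix W hTW hW γ (autGroup_mono' hi₀.1 W hγ) hfx x hx

end CfsgLib.SolvIndex
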